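import Cfsg.Agent.OddHalf.D5.Seven.Frame
import Cfsg.Agent.OddHalf.D5.Seven.Defs

-- merged: Cfsg.Agent.OddHalf.D5.Seven.PermFacts
section

/-!
# ODD half, D5, `K = A₇`: facts about `S₇`

`C_{S₇}(z) = D₈ × S₃` as an explicit list of 48 permutations (`mem_l48`); the finite facts are checked on the list.
-/

set_option autoImplicit false
set_option maxRecDepth 100000

namespace Cfsg.Agent.OddHalf.D5.Seven

open Equiv

/-- `e₁ = (0 1)` -/
def e7 : Perm (Fin 7) := swap 0 1
/-- `e₂ = (2 3)` -/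
def f7 : Perm (Fin 7) := swap 2 3
/-- the 3-cycle `(4 5 6)` -/
def c7 : Perm (Fin 7) := swap 4 5 * swap 5 6
/-- `e₁ → e₂ → e₃` -/
def q7 : Perm (Fin 7) := (swap 0 2 * swap 2 4) * (swap 1 3 * swap 3 5)

/-- `D₈` on `{0,1,2,3}` -/
def l8 : List (Perm (Fin 7)) := [1, e7, f7, z7, v7, z7 * v7, e7 * v7, f7 * v7]
/-- `S₃` on `{4,5,6}` -/
def l6 : List (Perm (Fin 7)) := [1, c7, c7 * c7, s7, s7 * c7, s7 * (c7 * c7)]
/-- the centralizer of `z` -/
def l48 : List (Perm (Fin 7)) := l8.flatMap fun a => l6.map fun b => a * b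

theorem l48_all {P : Perm (Fin 7) → Prop} [DecidablePred P] (h : l48.all (fun p => decide (P p)) = true) :
    ∀ p ∈ l48, P p := fun p hp => of_decide_eq_true (List.all_eq_true.1 h p hp)

theorem l8_vals : ∀ a : Fin 7, z7 a ≠ a → ∀ b : Fin 7, z7 b ≠ b → b ≠ a → b ≠ z7 a →
    l8.any (fun p => decide (p 0 = a ∧ p 2 = b)) = true := by decide +kernel

theorem l6_vals : ∀ c : Fin 7, z7 c = c → ∀ d : Fin 7, z7 d = d → d ≠ c → ∀ e : Fin 7, z7 e = e → e ≠ c → e ≠ d →
    l6.any (fun p => decide (p 4 = c ∧ p 5 = d ∧ p 6 = e)) = true := by decide +kernel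

theorem l8_fix : l8.all (fun p => decide (p 4 = 4 ∧ p 5 = 5 ∧ p 6 = 6 ∧ p 1 = z7 (p 0) ∧ p 3 = z7 (p 2))) = true := by
  decide +kernel
theorem l6_fix : l6.all (fun p => decide (p 0 = 0 ∧ p 1 = 1 ∧ p 2 = 2 ∧ p 3 = 3 ∧
    z7 (p 4) = p 4 ∧ z7 (p 5) = p 5 ∧ z7 (p 6) = p 6)) = true := by decide +kernel

theorem z7_0 : z7 0 = 1 := by decide
theorem z7_2 : z7 2 = 3 := by decide
theorem z7_4 : z7 4 = 4 := by decide
theorem z7_5 : z7 5 = 5 := by decide
theorem z7_6 : z7 6 = 6 := by decide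

theorem ext7 {g p : Perm (Fin 7)} (h0 : g 0 = p 0) (h1 : g 1 = p 1) (h2 : g 2 = p 2) (h3 : g 3 = p 3)
    (h4 : g 4 = p 4) (h5 : g 5 = p 5) (h6 : g 6 = p 6) : g = p := by
  ext i
  fin_cases i
  · exact congrArg Fin.val h0
  · exact congrArg Fin.val h1
  · exact congrArg Fin.val h2
  · exact congrArg Fin.val h3
  · exact congrArg Fin.val h4
  · exact congrArg Fin.val h5
  · exact congrArg Fin.val h6

theorem mem_l48 {g : Perm (Fin 7)} (h : g * z7 = z7 * g) : g ∈ l48 := by
  have hp : ∀ i, g (z7 i) = z7 (g i) := fun i => congrFun (congrArg DFunLike.coe h) i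
  have hinj := g.injective
  have h0 : z7 (g 0) ≠ g 0 := by
    rw [← hp]; exact hinj.ne (by decide)
  have h2 : z7 (g 2) ≠ g 2 := by
    rw [← hp]; exact hinj.ne (by decide)
  have h20 : g 2 ≠ g 0 := hinj.ne (by decide)
  have h21 : g 2 ≠ z7 (g 0) := by rw [← hp]; exact hinj.ne (by decide)
  have h4 : z7 (g 4) = g 4 := by rw [← hp, z7_4]
  have h5 : z7 (g 5) = g 5 := by rw [← hp, z7_5]
  have h6 : z7 (g 6) = g 6 := by rw [← hp, z7_6]
  obtain ⟨a, ha, ha'⟩ := List.any_eq_true.1 (l8_vals (g 0) h0 (g 2) h2 h20 h21)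
  obtain ⟨b, hb, hb'⟩ := List.any_eq_true.1 (l6_vals (g 4) h4 (g 5) h5 (hinj.ne (by decide)) (g 6) h6
    (hinj.ne (by decide)) (hinj.ne (by decide)))
  obtain ⟨a0, a2⟩ := of_decide_eq_true ha'
  obtain ⟨b4, b5, b6⟩ := of_decide_eq_true hb'
  obtain ⟨a4, a5, a6, a1, a3⟩ := of_decide_eq_true (List.all_eq_true.1 l8_fix a ha)
  obtain ⟨c0, c1, c2, c3, c4, c5, c6⟩ := of_decide_eq_true (List.all_eq_true.1 l6_fix b hb)
  have key : ∀ i : Fin 7, z7 i = i → a i = i := by
    intro i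
    fin_cases i
    · intro h; exact absurd h (by decide)
    · intro h; exact absurd h (by decide)
    · intro h; exact absurd h (by decide)
    · intro h; exact absurd h (by decide)
    · intro _; exact a4
    · intro _; exact a5
    · intro _; exact a6
  have e1 : g 1 = z7 (g 0) := by rw [← z7_0, hp]
  have e3 : g 3 = z7 (g 2) := by rw [← z7_2, hp]
  have : g = a * b := by
    apply ext7
    · rw [Perm.mul_apply, c0, a0]
    · rw [Perm.mul_apply, c1, a1, a0, e1]
    · rw [Perm.mul_apply, c2, a2]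
    · rw [Perm.mul_apply, c3, a3, a2, e3]
    · rw [Perm.mul_apply, key _ c4, b4]
    · rw [Perm.mul_apply, key _ c5, b5]
    · rw [Perm.mul_apply, key _ c6, b6]
  rw [this]
  exact List.mem_flatMap.2 ⟨a, ha, List.mem_map.2 ⟨b, hb, rfl⟩⟩

/-- elements of order 3 commuting with `z` -/
theorem three_z {g : Perm (Fin 7)} (h3 : g * g * g = 1) (h : g * z7 = z7 * g) : g = 1 ∨ g = c7 ∨ g = c7 * c7 :=
  l48_all (P := fun p => p * p * p = 1 → p = 1 ∨ p = c7 ∨ p = c7 * c7) (by decide +kernel) g (mem_l48 h) h3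

theorem sq_P {g : Perm (Fin 7)} (h : g * z7 = z7 * g) (hs : g * s7 = s7 * g) : g * g = 1 ∨ g * g = z7 :=
  l48_all (P := fun p => p * s7 = s7 * p → p * p = 1 ∨ p * p = z7) (by decide +kernel) g (mem_l48 h) hs

end Cfsg.Agent.OddHalf.D5.Seven

end

-- merged: Cfsg.Agent.OddHalf.D5.Seven.Types
section

/-!
# ODD half, D5, `K = A₇`: the three classes of involutions of `S₇`

`s₇ = (4 5)`, `z₇ = (0 1)(2 3)`, `k₇ = (0 1)(2 3)(4 5)`; centralizers of order 240, 48, 48; classes of sizes 21, 105, 105.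
-/

set_option autoImplicit false
set_option maxRecDepth 100000

namespace Cfsg.Agent.OddHalf.D5.Seven

open Equiv Subgroup

/-- `(0 1)(2 3)(4 5)` -/
def k7 : Perm (Fin 7) := e7 * f7 * s7

theorem cyc_inv {a : Perm (Fin 7)} (h : a * a = 1) :
    a.cycleType = Multiset.replicate (Multiset.card a.cycleType) 2 := by
  have := Fact.mk Nat.prime_two
  exact Perm.cycleType_of_pow_prime_eq_one (by rw [pow_two, h])

theorem cyc_card {a : Perm (Fin 7)} (h : a * a = 1) : Multiset.card a.cycleType * 2 = a.support.card := by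
  have h1 := Perm.sum_cycleType a
  rw [cyc_inv h, Multiset.sum_replicate, smul_eq_mul] at h1
  exact h1

theorem cyc_of {a : Perm (Fin 7)} (h : a * a = 1) {k : ℕ} (hk : a.support.card = k * 2) :
    a.cycleType = Multiset.replicate k 2 := by
  have h1 := cyc_card h
  have h2 : Multiset.card a.cycleType = k := by omega
  rw [cyc_inv h, h2]

theorem cyc_s7 : s7.cycleType = Multiset.replicate 1 2 := cyc_of (by decide +kernel) (by decide +kernel)
theorem cyc_z7 : z7.cycleType = Multiset.replicate 2 2 := cyc_of (by decide +kernel) (by decide +kernel)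
theorem cyc_k7 : k7.cycleType = Multiset.replicate 3 2 := cyc_of (by decide +kernel) (by decide +kernel)

/-- the type of an involution -/
theorem types {a : Perm (Fin 7)} (h : a * a = 1) (h1 : a ≠ 1) : IsConj s7 a ∨ IsConj z7 a ∨ IsConj k7 a := by
  have h2 := cyc_card h
  have h3 : a.support.card ≤ 7 := by
    have := Finset.card_le_univ a.support
    simpa using this
  have h4 : Multiset.card a.cycleType ≠ 0 := by
    intro h5
    exact h1 (Perm.card_cycleType_eq_zero.1 h5)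
  have h5 : Multiset.card a.cycleType = 1 ∨ Multiset.card a.cycleType = 2 ∨ Multiset.card a.cycleType = 3 := by
    omega
  rcases h5 with h5 | h5 | h5
  · left
    rw [Perm.isConj_iff_cycleType_eq, cyc_s7, cyc_inv h, h5]
  · right; left
    rw [Perm.isConj_iff_cycleType_eq, cyc_z7, cyc_inv h, h5]
  · right; right
    rw [Perm.isConj_iff_cycleType_eq, cyc_k7, cyc_inv h, h5]

theorem card_cent {a : Perm (Fin 7)} {k : ℕ} (hk : 0 < k) (h : a.cycleType = Multiset.replicate k 2) :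
    Nat.card (centralizer {a}) = (7 - k * 2).factorial * 2 ^ k * k.factorial := by
  rw [Perm.nat_card_centralizer, h, Multiset.sum_replicate, Multiset.prod_replicate, smul_eq_mul,
    Fintype.card_fin]
  have h1 : (Multiset.replicate k 2).toFinset = {2} := by
    rw [Multiset.toFinset_replicate, if_neg hk.ne']
  rw [h1, Finset.prod_singleton, Multiset.count_replicate_self]

theorem card_cent_s7 : Nat.card (centralizer {s7}) = 240 := by
  rw [card_cent (by norm_num) cyc_s7]; rfl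
theorem card_cent_z7 : Nat.card (centralizer {z7}) = 48 := by
  rw [card_cent (by norm_num) cyc_z7]; rfl
theorem card_cent_k7 : Nat.card (centralizer {k7}) = 48 := by
  rw [card_cent (by norm_num) cyc_k7]; rfl

theorem card_conj {a : Perm (Fin 7)} {n : ℕ} (h : Nat.card (centralizer {a}) = n) (hn : 0 < n) :
    Nat.card {b : Perm (Fin 7) // IsConj a b} = 5040 / n := by
  have h1 := Perm.card_isConj_mul_eq a
  rw [← Perm.nat_card_centralizer, h, Fintype.card_fin] at h1
  have h2 : Nat.card {b : Perm (Fin 7) // IsConj a b} * n = 5040 := h1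
  rw [← h2, Nat.mul_div_cancel _ hn]

theorem card_conj_s7 : Nat.card {b : Perm (Fin 7) // IsConj s7 b} = 21 := by
  rw [card_conj card_cent_s7 (by norm_num)]
theorem card_conj_z7 : Nat.card {b : Perm (Fin 7) // IsConj z7 b} = 105 := by
  rw [card_conj card_cent_z7 (by norm_num)]
theorem card_conj_k7 : Nat.card {b : Perm (Fin 7) // IsConj k7 b} = 105 := by
  rw [card_conj card_cent_k7 (by norm_num)]

theorem sign_s7 : Perm.sign s7 = -1 := by decide +kernel
theorem sign_z7 : Perm.sign z7 = 1 := by decide +kernel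
theorem sign_k7 : Perm.sign k7 = -1 := by decide +kernel

theorem sign_conj {a b : Perm (Fin 7)} (h : IsConj a b) : Perm.sign b = Perm.sign a := by
  obtain ⟨c, hc⟩ := isConj_iff.1 h
  rw [← hc, map_mul, map_mul, map_inv, mul_comm, inv_mul_cancel_left]

theorem not_conj_sz : ¬ IsConj s7 z7 := fun h => absurd (sign_conj h) (by rw [sign_s7, sign_z7]; decide)
theorem not_conj_kz : ¬ IsConj k7 z7 := fun h => absurd (sign_conj h) (by rw [sign_k7, sign_z7]; decide)

theorem not_conj_sk : ¬ IsConj s7 k7 := by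
  rw [Perm.isConj_iff_cycleType_eq, cyc_s7, cyc_k7]
  intro h
  have := congrArg Multiset.card h
  rw [Multiset.card_replicate, Multiset.card_replicate] at this
  exact absurd this (by norm_num)

end Cfsg.Agent.OddHalf.D5.Seven

end

-- merged: Cfsg.Agent.OddHalf.D5.Seven.TypeInv
section

/-!
# ODD half, D5, `K = A₇`: LEMMA G

`C_G(t) = ⟨t⟩ × ι(S₇)`, `y ∈ S₇` an involution with `t ~ t ι(y)`, `t ≁ ι(y)`. Then some `g` with `t ^ g = t ι(y)`
centralizes `ι(y)`: the type of `y' = ι(y) ^ g⁻¹` is recovered from the group `C(t) ∩ C(y')`.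
-/

set_option autoImplicit false
set_option maxRecDepth 100000

namespace Cfsg.Agent.OddHalf.D5.Seven

open Equiv Subgroup

variable {G : Type*} [Group G] {t : G} {ι : S7 →* G}

theorem semi_conj {g x y : G} (h : SemiconjBy g x y) : IsConj x y :=
  isConj_iff.2 ⟨g, by rw [h.eq, mul_inv_cancel_right]⟩

theorem exists_semi {x y : G} (h : IsConj x y) : ∃ g, SemiconjBy g x y := by
  obtain ⟨g, hg⟩ := isConj_iff.1 h
  exact ⟨g, by rw [SemiconjBy, ← hg, inv_mul_cancel_right]⟩

/-- `C(t) ∩ C(y)` -/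
def Ct (t y : G) : Type _ := {g : G // g * t = t * g ∧ g * y = y * g}

/-- conjugation transports `C(t) ∩ C(y)` -/
def Ct.equiv {g t y t' y' : G} (h1 : SemiconjBy g t t') (h2 : SemiconjBy g y y') : Ct t y ≃ Ct t' y' where
  toFun x := ⟨g * x.1 * g⁻¹, by
      have e : g * t * g⁻¹ = t' := by rw [h1.eq, mul_inv_cancel_right]
      rw [← e]
      calc g * x.1 * g⁻¹ * (g * t * g⁻¹) = g * (x.1 * t) * g⁻¹ := by group
        _ = g * (t * x.1) * g⁻¹ := by rw [x.2.1]
        _ = _ := by group, by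
      have e : g * y * g⁻¹ = y' := by rw [h2.eq, mul_inv_cancel_right]
      rw [← e]
      calc g * x.1 * g⁻¹ * (g * y * g⁻¹) = g * (x.1 * y) * g⁻¹ := by group
        _ = g * (y * x.1) * g⁻¹ := by rw [x.2.2]
        _ = _ := by group⟩
  invFun x := ⟨g⁻¹ * x.1 * g, by
      have e : g⁻¹ * t' * g = t := by rw [mul_assoc, ← h1.eq, inv_mul_cancel_left]
      rw [← e]
      calc g⁻¹ * x.1 * g * (g⁻¹ * t' * g) = g⁻¹ * (x.1 * t') * g := by group
        _ = g⁻¹ * (t' * x.1) * g := by rw [x.2.1]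
        _ = _ := by group, by
      have e : g⁻¹ * y' * g = y := by rw [mul_assoc, ← h2.eq, inv_mul_cancel_left]
      rw [← e]
      calc g⁻¹ * x.1 * g * (g⁻¹ * y' * g) = g⁻¹ * (x.1 * y') * g := by group
        _ = g⁻¹ * (y' * x.1) * g := by rw [x.2.2]
        _ = _ := by group⟩
  left_inv x := Subtype.ext (by group)
  right_inv x := Subtype.ext (by group)

/-- the 3-elements of `C(t) ∩ C(y)` commute -/
def TC (t y : G) : Prop := ∀ a b : G, a * t = t * a → a * y = y * a → a * a * a = 1 →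
  b * t = t * b → b * y = y * b → b * b * b = 1 → a * b = b * a

theorem TC.conj {g t y t' y' : G} (h1 : SemiconjBy g t t') (h2 : SemiconjBy g y y') (h : TC t y) : TC t' y' := by
  intro a b h3 h4 h5 h6 h7 h8
  have e1 : g⁻¹ * t' * g = t := by rw [mul_assoc, ← h1.eq, inv_mul_cancel_left]
  have e2 : g⁻¹ * y' * g = y := by rw [mul_assoc, ← h2.eq, inv_mul_cancel_left]
  have key : ∀ x z : G, x * z = z * x → (g⁻¹ * x * g) * (g⁻¹ * z * g) = (g⁻¹ * z * g) * (g⁻¹ * x * g) := by
    intro x z hxz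
    calc (g⁻¹ * x * g) * (g⁻¹ * z * g) = g⁻¹ * (x * z) * g := by group
      _ = g⁻¹ * (z * x) * g := by rw [hxz]
      _ = _ := by group
  have key3 : ∀ x : G, x * x * x = 1 → (g⁻¹ * x * g) * (g⁻¹ * x * g) * (g⁻¹ * x * g) = 1 := by
    intro x hx
    calc (g⁻¹ * x * g) * (g⁻¹ * x * g) * (g⁻¹ * x * g) = g⁻¹ * (x * x * x) * g := by group
      _ = 1 := by rw [hx]; group
  have h9 := h (g⁻¹ * a * g) (g⁻¹ * b * g) (by rw [← e1]; exact key _ _ h3) (by rw [← e2]; exact key _ _ h4)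
    (key3 _ h5) (by rw [← e1]; exact key _ _ h6) (by rw [← e2]; exact key _ _ h7) (key3 _ h8)
  calc a * b = g * ((g⁻¹ * a * g) * (g⁻¹ * b * g)) * g⁻¹ := by group
    _ = g * ((g⁻¹ * b * g) * (g⁻¹ * a * g)) * g⁻¹ := by rw [h9]
    _ = b * a := by group

namespace Spl

theorem comm_iff (h : Spl t ι) {a b : S7} : ι a * ι b = ι b * ι a ↔ a * b = b * a := by
  rw [← map_mul, ← map_mul]
  exact h.inj.eq_iff

theorem tt_mul (h : Spl t ι) (x : G) : t * (t * x) = x := by rw [← mul_assoc, h.tt, one_mul]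

/-- an element of `C(t) ∩ C(ι a)` -/
noncomputable def toCt (h : Spl t ι) (a : S7) : Bool × centralizer {a} → Ct t (ι a) := fun p =>
  ⟨(if p.1 then t else 1) * ι p.2.1, by
    have hc := h.comm p.2.1
    split_ifs
    · rw [mul_assoc, ← hc]
    · rw [one_mul, hc], by
    have hc := mem_centralizer_singleton_iff.1 p.2.2
    have hc' : ι p.2.1 * ι a = ι a * ι p.2.1 := h.comm_iff.2 hc
    split_ifs
    · rw [mul_assoc, hc', ← mul_assoc, ← mul_assoc, h.comm a]
    · rw [one_mul, hc']⟩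

theorem toCt_bij (h : Spl t ι) (a : S7) : Function.Bijective (h.toCt a) := by
  constructor
  · rintro ⟨i, x⟩ ⟨j, y⟩ e
    have e' : (if i then t else 1) * ι x.1 = (if j then t else 1) * ι y.1 := congrArg Subtype.val e
    rcases i with _ | _ <;> rcases j with _ | _
    · simp only [Bool.false_eq_true, if_false, one_mul] at e'
      rw [Subtype.ext (h.inj e')]
    · simp only [Bool.false_eq_true, if_false, one_mul, if_true] at e'
      exact absurd e' (h.tne _ _)
    · simp only [Bool.false_eq_true, if_false, one_mul, if_true] at e'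
      exact absurd e'.symm (h.tne _ _)
    · simp only [if_true, mul_right_inj] at e'
      rw [Subtype.ext (h.inj e')]
  · rintro ⟨x, hx1, hx2⟩
    rcases h.cent x hx1 with ⟨b, rfl⟩ | ⟨b, rfl⟩
    · refine ⟨(false, ⟨b, mem_centralizer_singleton_iff.2 (h.comm_iff.1 hx2)⟩), Subtype.ext ?_⟩
      show (if false = true then t else 1) * ι b = ι b
      simp
    · have hb : b * a = a * b := by
        apply h.comm_iff.1
        have h1 : t * (ι b * ι a) = t * (ι a * ι b) := by
          rw [← mul_assoc, hx2, ← mul_assoc, ← mul_assoc, h.comm a]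
        exact mul_left_cancel h1
      refine ⟨(true, ⟨b, mem_centralizer_singleton_iff.2 hb⟩), Subtype.ext ?_⟩
      show (if true = true then t else 1) * ι b = t * ι b
      simp

theorem card_Ct (h : Spl t ι) (a : S7) : Nat.card (Ct t (ι a)) = 2 * Nat.card (centralizer {a}) := by
  rw [← Nat.card_congr (Equiv.ofBijective _ (h.toCt_bij a)), Nat.card_prod]
  congr 1
  rw [Nat.card_eq_fintype_card, Fintype.card_bool]

/-- an element of order 3 of `C(t)` lies in `ι(S₇)` -/
theorem three (h : Spl t ι) {x : G} (hx : x * t = t * x) (h3 : x * x * x = 1) : ∃ a, x = ι a ∧ a * a * a = 1 := by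
  rcases h.cent x hx with ⟨a, rfl⟩ | ⟨a, rfl⟩
  · refine ⟨a, rfl, ?_⟩
    apply h.iota_eq_one
    rw [map_mul, map_mul, h3]
  · exfalso
    have h1 : t * ι a * (t * ι a) * (t * ι a) = t * ι (a * a * a) := by
      rw [map_mul, map_mul]
      calc t * ι a * (t * ι a) * (t * ι a) = t * (ι a * t) * ι a * (t * ι a) := by group
        _ = t * (t * ι a) * ι a * (t * ι a) := by rw [h.comm a]
        _ = ι a * (ι a * t) * ι a := by rw [h.tt_mul]; group
        _ = ι a * (t * ι a) * ι a := by rw [h.comm a]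
        _ = (ι a * t) * ι a * ι a := by group
        _ = t * ι a * ι a * ι a := by rw [h.comm a]
        _ = _ := by group
    rw [h1] at h3
    have h2 : ι (a * a * a) = t := by
      calc ι (a * a * a) = t * (t * ι (a * a * a)) := (h.tt_mul _).symm
        _ = t := by rw [h3, mul_one]
    exact h.ne _ h2

theorem tc_iff (h : Spl t ι) (y : S7) : TC t (ι y) ↔ ∀ a b : S7, a * y = y * a → a * a * a = 1 →
    b * y = y * b → b * b * b = 1 → a * b = b * a := by
  constructor
  · intro hT a b h1 h2 h3 h4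
    have := hT (ι a) (ι b) (h.comm' a) (h.comm_iff.2 h1) (by rw [← map_mul, ← map_mul, h2, map_one])
      (h.comm' b) (h.comm_iff.2 h3) (by rw [← map_mul, ← map_mul, h4, map_one])
    exact h.comm_iff.1 this
  · intro hT a b h1 h2 h3 h4 h5 h6
    obtain ⟨a', rfl, ha⟩ := h.three h1 h3
    obtain ⟨b', rfl, hb⟩ := h.three h4 h6
    exact h.comm_iff.2 (hT a' b' (h.comm_iff.1 h2) ha (h.comm_iff.1 h5) hb)

theorem tc_z (h : Spl t ι) : TC t (ι z7) := by
  rw [h.tc_iff]
  intro a b h1 h2 h3 h4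
  rcases three_z h2 h1 with rfl | rfl | rfl <;> rcases three_z h4 h3 with rfl | rfl | rfl <;> decide +kernel

theorem not_tc_k (h : Spl t ι) : ¬ TC t (ι k7) := by
  rw [h.tc_iff]
  intro hT
  exact absurd (hT q7 (e7 * q7 * e7) (by decide +kernel) (by decide +kernel) (by decide +kernel) (by decide +kernel))
    (by decide +kernel)

theorem iota_conj {a b : S7} (hab : IsConj a b) : IsConj (ι a) (ι b) := by
  obtain ⟨c, hc⟩ := exists_semi hab
  exact semi_conj (hc.map ι)

/-- the type of `a` is determined by the group `C(t) ∩ C(ι a)` -/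
theorem type_inv (h : Spl t ι) {a y : S7} (ha : a * a = 1) (ha1 : a ≠ 1) (hy : y * y = 1) (hy1 : y ≠ 1)
    (h1 : Nat.card (Ct t (ι a)) = Nat.card (Ct t (ι y))) (h3 : TC t (ι a) ↔ TC t (ι y)) : IsConj a y := by
  rw [h.card_Ct, h.card_Ct] at h1
  have hcc : Nat.card (centralizer {a}) = Nat.card (centralizer {y}) := by omega
  have tcc : ∀ u v : S7, IsConj u v → (TC t (ι u) ↔ TC t (ι v)) := by
    intro u v huv
    obtain ⟨c, hc⟩ := exists_semi huv
    have hc' : SemiconjBy (ι c) (ι u) (ι v) := hc.map ι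
    have ht' : SemiconjBy (ι c) t t := h.comm' c
    exact ⟨fun h => h.conj ht' hc', fun h => h.conj ht'.inv_symm_left hc'.inv_symm_left⟩
  have ccc : ∀ u v : S7, IsConj u v → Nat.card (centralizer {u}) = Nat.card (centralizer {v}) := by
    intro u v huv
    rw [Perm.nat_card_centralizer, Perm.nat_card_centralizer, Perm.isConj_iff_cycleType_eq.1 huv]
  rcases types ha ha1 with h4 | h4 | h4 <;> rcases types hy hy1 with h5 | h5 | h5
  · exact h4.symm.trans h5
  · rw [← ccc _ _ h4, ← ccc _ _ h5, card_cent_s7, card_cent_z7] at hcc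
    omega
  · rw [← ccc _ _ h4, ← ccc _ _ h5, card_cent_s7, card_cent_k7] at hcc
    omega
  · rw [← ccc _ _ h4, ← ccc _ _ h5, card_cent_s7, card_cent_z7] at hcc
    omega
  · exact h4.symm.trans h5
  · exact absurd ((tcc _ _ h5).2 (h3.1 ((tcc _ _ h4).1 h.tc_z))) h.not_tc_k
  · rw [← ccc _ _ h4, ← ccc _ _ h5, card_cent_s7, card_cent_k7] at hcc
    omega
  · exact absurd ((tcc _ _ h4).2 (h3.2 ((tcc _ _ h5).1 h.tc_z))) h.not_tc_k
  · exact h4.symm.trans h5

/-- **LEMMA G.** -/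
theorem lemmaG (h : Spl t ι) {y : S7} (hy : y * y = 1) (hy1 : y ≠ 1) (hc : IsConj t (t * ι y))
    (hn : ¬ IsConj t (ι y)) : ∃ g, SemiconjBy g t (t * ι y) ∧ SemiconjBy g (ι y) (ι y) := by
  obtain ⟨g, hg⟩ := exists_semi hc
  have hgy : SemiconjBy g (g⁻¹ * ι y * g) (ι y) := by
    show g * (g⁻¹ * ι y * g) = ι y * g
    group
  set y' := g⁻¹ * ι y * g with hy'
  have hyy : ι y * ι y = 1 := by rw [← map_mul, hy, map_one]
  have hyy' : y' * y' = 1 := by
    rw [hy']
    calc g⁻¹ * ι y * g * (g⁻¹ * ι y * g) = g⁻¹ * (ι y * ι y) * g := by group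
      _ = 1 := by rw [hyy]; group
  have e1 : t = g⁻¹ * (t * ι y) * g := by rw [mul_assoc, ← hg.eq, inv_mul_cancel_left]
  have hcomm : y' * t = t * y' := by
    have e2 : ι y * (t * ι y) = (t * ι y) * ι y := by rw [← mul_assoc, ← h.comm y]
    calc y' * t = y' * (g⁻¹ * (t * ι y) * g) := by rw [← e1]
      _ = g⁻¹ * (ι y * (t * ι y)) * g := by rw [hy']; group
      _ = (g⁻¹ * (t * ι y) * g) * y' := by rw [e2, hy']; group
      _ = t * y' := by rw [← e1]
  have hty : SemiconjBy g (t * y') t := by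
    have h1 := hg.mul_right hgy
    rwa [mul_assoc, hyy, mul_one] at h1
  obtain ⟨a, ha⟩ := h.cases hcomm
  have haa : a * a = 1 := by
    apply h.iota_eq_one
    rw [map_mul]
    rcases ha with ha | ha
    · rw [← ha, hyy']
    · have : ι a = t * y' := by rw [ha, h.tt_mul]
      rw [this]
      calc t * y' * (t * y') = t * (y' * t) * y' := by group
        _ = t * (t * y') * y' := by rw [hcomm]
        _ = 1 := by rw [h.tt_mul, hyy']
  have ha1 : a ≠ 1 := by
    rintro rfl
    rw [map_one, mul_one] at ha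
    rcases ha with ha | ha
    · rw [ha] at hgy
      apply hy1
      apply h.iota_eq_one
      have h2 := hgy.eq
      rw [mul_one] at h2
      exact (mul_eq_right.1 h2.symm)
    · rw [ha] at hgy
      exact hn (semi_conj hgy)
  have hP : ∀ x : G, x * t = t * x → (x * y' = y' * x ↔ x * ι a = ι a * x) := by
    intro x hx
    rcases ha with ha | ha
    · rw [ha]
    · rw [ha]
      constructor
      · intro h1
        have h2 : t * (x * ι a) = t * (ι a * x) := by
          calc t * (x * ι a) = (t * x) * ι a := by group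
            _ = (x * t) * ι a := by rw [hx]
            _ = x * (t * ι a) := by group
            _ = (t * ι a) * x := h1
            _ = _ := by group
        exact mul_left_cancel h2
      · intro h1
        calc x * (t * ι a) = (x * t) * ι a := by group
          _ = t * (x * ι a) := by rw [hx]; group
          _ = t * (ι a * x) := by rw [h1]
          _ = _ := by group
  have hQ : ∀ x : G, (x * (t * ι y) = (t * ι y) * x ∧ x * ι y = ι y * x) ↔ (x * t = t * x ∧ x * ι y = ι y * x) := by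
    intro x
    constructor
    · rintro ⟨h1, h2⟩
      refine ⟨?_, h2⟩
      have e : t = t * ι y * ι y := by rw [mul_assoc, hyy, mul_one]
      calc x * t = x * (t * ι y) * ι y := by rw [mul_assoc, ← e]
        _ = (t * ι y) * (x * ι y) := by rw [h1]; group
        _ = (t * ι y * ι y) * x := by rw [h2]; group
        _ = t * x := by rw [← e]
    · rintro ⟨h1, h2⟩
      refine ⟨?_, h2⟩
      calc x * (t * ι y) = (x * t) * ι y := by group
        _ = t * (x * ι y) := by rw [h1]; group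
        _ = _ := by rw [h2]; group
  have hconj : IsConj a y := by
    apply h.type_inv haa ha1 hy hy1
    · have e2 : Nat.card (Ct t y') = Nat.card (Ct (t * ι y) (ι y)) := Nat.card_congr (Ct.equiv hg hgy)
      have e3 : Nat.card (Ct t y') = Nat.card (Ct t (ι a)) := by
        apply Nat.card_congr
        exact Equiv.subtypeEquivRight fun x => and_congr_right (hP x)
      have e4 : Nat.card (Ct (t * ι y) (ι y)) = Nat.card (Ct t (ι y)) := by
        apply Nat.card_congr
        exact Equiv.subtypeEquivRight hQ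
      rw [← e3, e2, e4]
    · have e2 : TC t y' ↔ TC (t * ι y) (ι y) :=
        ⟨fun h1 => h1.conj hg hgy, fun h1 => h1.conj hg.inv_symm_left hgy.inv_symm_left⟩
      have e3 : TC t y' ↔ TC t (ι a) := by
        constructor
        · intro hT a b h1 h2 h3 h4 h5 h6
          exact hT a b h1 ((hP a h1).2 h2) h3 h4 ((hP b h4).2 h5) h6
        · intro hT a b h1 h2 h3 h4 h5 h6
          exact hT a b h1 ((hP a h1).1 h2) h3 h4 ((hP b h4).1 h5) h6
      have e4 : TC (t * ι y) (ι y) ↔ TC t (ι y) := by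
        constructor
        · intro hT a b h1 h2 h3 h4 h5 h6
          exact hT a b ((hQ a).2 ⟨h1, h2⟩).1 h2 h3 ((hQ b).2 ⟨h4, h5⟩).1 h5 h6
        · intro hT a b h1 h2 h3 h4 h5 h6
          exact hT a b ((hQ a).1 ⟨h1, h2⟩).1 h2 h3 ((hQ b).1 ⟨h4, h5⟩).1 h5 h6
      rw [← e3, e2, e4]
  rcases ha with ha | ha
  · obtain ⟨c, hcc⟩ := exists_semi hconj.symm
    have hc1 : SemiconjBy (ι c) (ι y) (ι a) := hcc.map ι
    have hc2 : SemiconjBy (ι c) t t := h.comm' c
    exact ⟨g * ι c, hg.mul_left hc2, hgy.mul_left (ha ▸ hc1)⟩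
  · exfalso
    apply hn
    have e5 : t * y' = ι a := by rw [ha, h.tt_mul]
    rw [e5] at hty
    exact (semi_conj hty).symm.trans (iota_conj hconj)

end Spl

end Cfsg.Agent.OddHalf.D5.Seven

end

-- merged: Cfsg.Agent.OddHalf.D5.Seven.Fusion
section

/-!
# ODD half, D5, `K = A₇`, step (3): the fusion element

Pattern ALL: `t^G ∩ C(t) = {t} ∪ t I(ι(S₇))`. There is `p` centralizing `ι(s)`, `ι(z)`, `ι(v)` (`s = (4 5)`,
`z = (0 1)(2 3)`, `v = (0 2)(1 3)`) with `t ^ p = t ι(z)`.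
-/

set_option autoImplicit false
set_option maxRecDepth 100000

namespace Cfsg.Agent.OddHalf.D5.Seven

open Equiv Subgroup

variable {G : Type*} [Group G] {t : G} {ι : S7 →* G}

theorem semi_comm {g x y x' y' : G} (h1 : SemiconjBy g x x') (h2 : SemiconjBy g y y') (h : x * y = y * x) :
    x' * y' = y' * x' := by
  have h3 := h1.mul_right h2
  have h4 := h2.mul_right h1
  rw [h] at h3
  have h5 := h3.eq.symm.trans h4.eq
  exact mul_right_cancel h5

theorem semi_sq {g x x' : G} (h1 : SemiconjBy g x x') (h : x * x = 1) : x' * x' = 1 := by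
  have h3 := (h1.mul_right h1).eq
  rw [h, mul_one] at h3
  exact (mul_eq_right.1 h3.symm)

theorem semi_ne {g x x' : G} (h1 : SemiconjBy g x x') (h : x ≠ 1) : x' ≠ 1 := by
  rintro rfl
  have h3 := h1.eq
  rw [one_mul] at h3
  exact h (mul_eq_left.1 h3)

theorem semi_inj {g x y x' y' : G} (h1 : SemiconjBy g x x') (h2 : SemiconjBy g y y') (h : x' = y') : x = y := by
  subst h
  have := h1.eq.trans h2.eq.symm
  exact mul_left_cancel this

theorem semi_mul {g : G} {a b a' b' c c' : S7} (h1 : SemiconjBy g (ι a) (ι a')) (h2 : SemiconjBy g (ι b) (ι b'))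
    (hc : a * b = c) (hc' : a' * b' = c') : SemiconjBy g (ι c) (ι c') := by
  rw [← hc, ← hc', map_mul, map_mul]
  exact h1.mul_right h2

theorem semi_tmul {g : G} {x a a' c : S7} (h1 : SemiconjBy g t (t * ι x)) (h2 : SemiconjBy g (ι a) (ι a'))
    (hc : x * a' = c) : SemiconjBy g (t * ι a) (t * ι c) := by
  rw [← hc, map_mul, ← mul_assoc]
  exact h1.mul_right h2

theorem semi_tmul0 {g : G} {a a' : S7} (h1 : SemiconjBy g t t) (h2 : SemiconjBy g (ι a) (ι a')) :
    SemiconjBy g (t * ι a) (t * ι a') := h1.mul_right h2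

theorem semi_tmul1 {g : G} {x a a' : S7} (h1 : SemiconjBy g t (t * ι x)) (h2 : SemiconjBy g (ι a) (ι a'))
    (hc : x * a' = 1) : SemiconjBy g (t * ι a) t := by
  have h3 := h1.mul_right h2
  rwa [mul_assoc, ← map_mul, hc, map_one, mul_one] at h3

namespace Spl

/-- an element of `C(t)` induces an inner automorphism of `ι(S₇)` -/
theorem conj_of_comm (h : Spl t ι) {g : G} (hg : g * t = t * g) {a b : S7} (hab : SemiconjBy g (ι a) (ι b)) :
    IsConj a b := by
  rcases h.cent g hg with ⟨c, rfl⟩ | ⟨c, rfl⟩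
  · apply semi_conj (g := c)
    apply h.inj
    rw [map_mul, map_mul, hab.eq]
  · apply semi_conj (g := c)
    apply h.inj
    have h1 := hab.eq
    rw [← mul_assoc, ← h.comm b, mul_assoc, mul_assoc] at h1
    rw [map_mul, map_mul]
    exact mul_left_cancel h1

theorem commutator_mem (h : Spl t ι) {x y : G} (hx : x * t = t * x) (hy : y * t = t * y) :
    ∃ a b : S7, (x = ι a ∨ x = t * ι a) ∧ (y = ι b ∨ y = t * ι b) ∧ x * y * x⁻¹ * y⁻¹ = ι (a * b * a⁻¹ * b⁻¹) := by
  obtain ⟨a, ha⟩ := h.cases hx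
  obtain ⟨b, hb⟩ := h.cases hy
  refine ⟨a, b, ha, hb, ?_⟩
  have hai : (ι a)⁻¹ * t = t * (ι a)⁻¹ := by rw [← map_inv]; exact h.comm' _
  have hbi : (ι b)⁻¹ * t = t * (ι b)⁻¹ := by rw [← map_inv]; exact h.comm' _
  have hba := h.comm' a
  have hbb := h.comm' b
  have hti := h.t_inv
  rw [map_mul, map_mul, map_mul, map_inv, map_inv]
  rcases ha with rfl | rfl <;> rcases hb with rfl | rfl
  · rfl
  · rw [mul_inv_rev, hti]
    calc ι a * (t * ι b) * (ι a)⁻¹ * ((ι b)⁻¹ * t) = (ι a * t) * ι b * (ι a)⁻¹ * ((ι b)⁻¹ * t) := by group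
      _ = t * ι a * ι b * (ι a)⁻¹ * (t * (ι b)⁻¹) := by rw [hba, hbi]
      _ = t * ι a * ι b * ((ι a)⁻¹ * t) * (ι b)⁻¹ := by group
      _ = t * ι a * (ι b * t) * (ι a)⁻¹ * (ι b)⁻¹ := by rw [hai]; group
      _ = t * (ι a * t) * ι b * (ι a)⁻¹ * (ι b)⁻¹ := by rw [hbb]; group
      _ = (t * (t * ι a)) * ι b * (ι a)⁻¹ * (ι b)⁻¹ := by rw [hba]
      _ = _ := by rw [h.tt_mul]
  · rw [mul_inv_rev, hti]
    calc t * ι a * ι b * ((ι a)⁻¹ * t) * (ι b)⁻¹ = t * ι a * (ι b * t) * (ι a)⁻¹ * (ι b)⁻¹ := by rw [hai]; group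
      _ = t * (ι a * t) * ι b * (ι a)⁻¹ * (ι b)⁻¹ := by rw [hbb]; group
      _ = (t * (t * ι a)) * ι b * (ι a)⁻¹ * (ι b)⁻¹ := by rw [hba]
      _ = _ := by rw [h.tt_mul]
  · rw [mul_inv_rev, mul_inv_rev, hti]
    have e1 : t * ι a * (t * ι b) = ι a * ι b := by
      calc t * ι a * (t * ι b) = t * (ι a * t) * ι b := by group
        _ = (t * (t * ι a)) * ι b := by rw [hba]
        _ = _ := by rw [h.tt_mul]
    rw [e1, hai, hbi]
    have e2 : t * (ι a)⁻¹ * (t * (ι b)⁻¹) = (ι a)⁻¹ * (ι b)⁻¹ := by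
      calc t * (ι a)⁻¹ * (t * (ι b)⁻¹) = t * ((ι a)⁻¹ * t) * (ι b)⁻¹ := by group
        _ = (t * (t * (ι a)⁻¹)) * (ι b)⁻¹ := by rw [hai]
        _ = _ := by rw [h.tt_mul]
    rw [mul_assoc (ι a * ι b), e2]
    group

/-- commuting with `ι b` is the same for `ι a` and `t ι a` -/
theorem comm_of_cases (h : Spl t ι) {x : G} {a b : S7} (hx : x = ι a ∨ x = t * ι a) (hb : x * ι b = ι b * x) :
    a * b = b * a := by
  apply h.comm_iff.1
  rcases hx with rfl | rfl
  · exact hb
  · apply mul_left_cancel (a := t)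
    rw [← mul_assoc, hb, ← mul_assoc, ← mul_assoc, h.comm b]

end Spl

theorem app_inv (c : S7) (i : Fin 7) : c (c⁻¹ i) = i := c.apply_symm_apply i

theorem comm_s7 {a : S7} (h : a * s7 = s7 * a) : (a 4 = 4 ∧ a 5 = 5) ∨ (a 4 = 5 ∧ a 5 = 4) := by
  have hp : ∀ i, a (s7 i) = s7 (a i) := fun i => congrFun (congrArg DFunLike.coe h) i
  have h4 : a 5 = s7 (a 4) := by rw [← hp]; rfl
  have h45 : a 4 ≠ s7 (a 4) := by rw [← h4]; exact a.injective.ne (by decide)
  have key : ∀ i : Fin 7, i ≠ s7 i → (i = 4 ∧ s7 i = 5) ∨ (i = 5 ∧ s7 i = 4) := by decide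
  rw [h4]
  exact key _ h45

theorem commutator45 {a b : S7} (ha : a * s7 = s7 * a) (hb : b * s7 = s7 * b) :
    (a * b * a⁻¹ * b⁻¹) 4 = 4 ∧ (a * b * a⁻¹ * b⁻¹) 5 = 5 := by
  have inv : ∀ c : S7, ((c 4 = 4 ∧ c 5 = 5) ∨ (c 4 = 5 ∧ c 5 = 4)) →
      (c⁻¹ 4 = c 4 ∧ c⁻¹ 5 = c 5) := by
    rintro c (⟨h1, h2⟩ | ⟨h1, h2⟩)
    · rw [h1, h2]
      exact ⟨by rw [Perm.inv_eq_iff_eq, h1], by rw [Perm.inv_eq_iff_eq, h2]⟩
    · rw [h1, h2]
      exact ⟨by rw [Perm.inv_eq_iff_eq, h2], by rw [Perm.inv_eq_iff_eq, h1]⟩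
  have ha' := comm_s7 ha
  have hb' := comm_s7 hb
  obtain ⟨ia4, ia5⟩ := inv a ha'
  obtain ⟨ib4, ib5⟩ := inv b hb'
  simp only [Perm.mul_apply]
  rcases ha' with ⟨a4, a5⟩ | ⟨a4, a5⟩ <;> rcases hb' with ⟨b4, b5⟩ | ⟨b4, b5⟩ <;>
  rw [a4] at ia4 <;> rw [a5] at ia5 <;> rw [b4] at ib4 <;> rw [b5] at ib5 <;>
  simp [a4, a5, b4, b5, ia4, ia5, ib4, ib5]

theorem sign_commutator (a b : S7) : Perm.sign (a * b * a⁻¹ * b⁻¹) = 1 := by
  rw [map_mul, map_mul, map_mul, map_inv, map_inv, mul_comm (Perm.sign a), mul_inv_cancel_right, mul_inv_cancel]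

theorem even_type {a : S7} (h : a * a = 1) (h1 : a ≠ 1) (hs : Perm.sign a = 1) : IsConj z7 a := by
  rcases types h h1 with h2 | h2 | h2
  · rw [sign_conj h2, sign_s7] at hs
    exact absurd hs (by decide)
  · exact h2
  · rw [sign_conj h2, sign_k7] at hs
    exact absurd hs (by decide)

/-- an even involution fixing 4, 5 is conjugate to `z` by an element fixing 4 and 5 -/
theorem conj_fix {a : S7} (h : IsConj z7 a) (h4 : a 4 = 4) (h5 : a 5 = 5) :
    ∃ c : S7, c 4 = 4 ∧ c 5 = 5 ∧ SemiconjBy c z7 a := by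
  obtain ⟨c, hc⟩ := exists_semi h
  have hz : ∀ i, a i = i → z7 (c⁻¹ i) = c⁻¹ i := by
    intro i hi
    have h6 : c (z7 (c⁻¹ i)) = a (c (c⁻¹ i)) := congrFun (congrArg DFunLike.coe hc.eq) (c⁻¹ i)
    rw [app_inv, hi] at h6
    rw [Perm.eq_inv_iff_eq, h6]
  have h45 : c⁻¹ 5 ≠ c⁻¹ 4 := (c⁻¹).injective.ne (by decide)
  have key : ∀ i : Fin 7, z7 i = i → ∀ j : Fin 7, z7 j = j → j ≠ i →
      l6.any (fun p => decide (p 4 = i ∧ p 5 = j)) = true := by decide +kernel
  obtain ⟨b, hb, hb'⟩ := List.any_eq_true.1 (key _ (hz 4 h4) _ (hz 5 h5) h45)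
  obtain ⟨b4, b5⟩ := of_decide_eq_true hb'
  have hbz : b * z7 = z7 * b := by
    have key2 : l6.all (fun p => decide (p * z7 = z7 * p)) = true := by decide +kernel
    exact of_decide_eq_true (List.all_eq_true.1 key2 b hb)
  refine ⟨c * b, ?_, ?_, hc.mul_left hbz⟩
  · rw [Perm.mul_apply, b4, app_inv]
  · rw [Perm.mul_apply, b5, app_inv]

theorem conj_pair {a b : S7} (ha : a * a = 1) (ha1 : a ≠ 1) (hsa : Perm.sign a = 1) (a4 : a 4 = 4) (a5 : a 5 = 5)
    (hb : b * b = 1) (hb1 : b ≠ 1) (hsb : Perm.sign b = 1) (b4 : b 4 = 4) (b5 : b 5 = 5)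
    (hab : a * b = b * a) (hne : b ≠ a) : ∃ c : S7, c 4 = 4 ∧ c 5 = 5 ∧ SemiconjBy c z7 a ∧ SemiconjBy c v7 b := by
  obtain ⟨c, c4, c5, hc⟩ := conj_fix (even_type ha ha1 hsa) a4 a5
  have hcb : SemiconjBy c (c⁻¹ * b * c) b := by
    show c * (c⁻¹ * b * c) = b * c
    group
  have i4 : c⁻¹ 4 = 4 := by rw [Perm.inv_eq_iff_eq, c4]
  have i5 : c⁻¹ 5 = 5 := by rw [Perm.inv_eq_iff_eq, c5]
  have h1 : (c⁻¹ * b * c) * z7 = z7 * (c⁻¹ * b * c) := semi_comm hcb.inv_symm_left hc.inv_symm_left hab.symm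
  have h2 : (c⁻¹ * b * c) * (c⁻¹ * b * c) = 1 := semi_sq hcb.inv_symm_left hb
  have h3 : c⁻¹ * b * c ≠ 1 := semi_ne hcb.inv_symm_left hb1
  have h4 : c⁻¹ * b * c ≠ z7 := fun e => hne (semi_inj hcb.inv_symm_left hc.inv_symm_left e)
  have h5 : Perm.sign (c⁻¹ * b * c) = 1 := by
    rw [map_mul, map_mul, map_inv, mul_comm, mul_inv_cancel_left, hsb]
  have h6 : (c⁻¹ * b * c) 4 = 4 := by rw [Perm.mul_apply, Perm.mul_apply, c4, b4, i4]
  have h7 : (c⁻¹ * b * c) 5 = 5 := by rw [Perm.mul_apply, Perm.mul_apply, c5, b5, i5]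
  have key := l48_all (P := fun p => p * p = 1 → p ≠ 1 → p ≠ z7 → Perm.sign p = 1 → p 4 = 4 → p 5 = 5 →
    p = v7 ∨ p = z7 * v7) (by decide +kernel) _ (mem_l48 h1) h2 h3 h4 h5 h6 h7
  rcases key with key | key
  · exact ⟨c, c4, c5, hc, by rw [key] at hcb; exact hcb⟩
  · refine ⟨c * e7, ?_, ?_, ?_, ?_⟩
    · rw [Perm.mul_apply, show e7 4 = 4 by decide, c4]
    · rw [Perm.mul_apply, show e7 5 = 5 by decide, c5]
    · exact hc.mul_left (show e7 * z7 = z7 * e7 by decide +kernel)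
    · rw [key] at hcb
      exact hcb.mul_left (show e7 * v7 = (z7 * v7) * e7 by decide +kernel)

theorem comm_s7_of {c : S7} (c4 : c 4 = 4) (c5 : c 5 = 5) : c * s7 = s7 * c := by
  have h := Equiv.swap_apply_apply c 4 5
  rw [c4, c5] at h
  show c * swap 4 5 = swap 4 5 * c
  conv_rhs => rw [h]
  group

namespace Spl

/-- the element `m` -/
theorem exists_m (h : Spl t ι) (hs : IsConj t (t * ι s7)) (hn : ¬ IsConj t (ι s7)) :
    ∃ m, SemiconjBy m t (t * ι s7) ∧ SemiconjBy m (ι s7) (ι s7) ∧ SemiconjBy m (ι z7) (ι z7) ∧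
      SemiconjBy m (ι v7) (ι v7) := by
  obtain ⟨m, m1, m2⟩ := h.lemmaG (y := s7) (by decide +kernel) (by decide +kernel) hs hn
  have hss : ι s7 * ι s7 = 1 := by rw [← map_mul, show s7 * s7 = 1 by decide +kernel, map_one]
  have m3 : SemiconjBy m (t * ι s7) t := by
    have := m1.mul_right m2
    rwa [mul_assoc, hss, mul_one] at this
  have img : ∀ a : S7, a * s7 = s7 * a → ∃ x, SemiconjBy m (ι a) x ∧ x * t = t * x ∧ x * ι s7 = ι s7 * x := by
    intro a ha
    have h1 : SemiconjBy m (ι a) (m * ι a * m⁻¹) := by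
      show m * ι a = m * ι a * m⁻¹ * m
      group
    refine ⟨_, h1, ?_, ?_⟩
    · apply semi_comm h1 m3
      rw [← mul_assoc, ← h.comm a, mul_assoc, mul_assoc, h.comm_iff.2 ha]
    · exact semi_comm h1 m2 (h.comm_iff.2 ha)
  have cimg : ∀ a b c : S7, a * s7 = s7 * a → b * s7 = s7 * b → c = a * b * a⁻¹ * b⁻¹ →
      ∃ c' : S7, SemiconjBy m (ι c) (ι c') ∧ c' 4 = 4 ∧ c' 5 = 5 ∧ Perm.sign c' = 1 := by
    intro a b c ha hb hc
    obtain ⟨x, hx1, hx2, hx3⟩ := img a ha
    obtain ⟨y, hy1, hy2, hy3⟩ := img b hb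
    obtain ⟨a', b', ha', hb', hab⟩ := h.commutator_mem hx2 hy2
    refine ⟨a' * b' * a'⁻¹ * b'⁻¹, ?_, ?_, ?_, sign_commutator _ _⟩
    · rw [← hab, hc, map_mul, map_mul, map_mul, map_inv, map_inv]
      exact ((hx1.mul_right hy1).mul_right hx1.inv_right).mul_right hy1.inv_right
    · exact (commutator45 (h.comm_of_cases ha' hx3) (h.comm_of_cases hb' hy3)).1
    · exact (commutator45 (h.comm_of_cases ha' hx3) (h.comm_of_cases hb' hy3)).2
  obtain ⟨z', hz, z4, z5, zs⟩ := cimg v7 e7 z7 (by decide +kernel) (by decide +kernel) (by decide +kernel)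
  obtain ⟨v', hv, v4, v5, vs⟩ := cimg z7 (swap 0 2) v7 (by decide +kernel) (by decide +kernel) (by decide +kernel)
  have hzz : z' * z' = 1 := h.iota_eq_one (by
    rw [map_mul]; exact semi_sq hz (by rw [← map_mul, show z7 * z7 = 1 by decide +kernel, map_one]))
  have hvv : v' * v' = 1 := h.iota_eq_one (by
    rw [map_mul]; exact semi_sq hv (by rw [← map_mul, show v7 * v7 = 1 by decide +kernel, map_one]))
  have hz1 : z' ≠ 1 := fun e => semi_ne hz (fun e' => absurd (h.iota_eq_one e') (by decide +kernel))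
    (by rw [e, map_one])
  have hv1 : v' ≠ 1 := fun e => semi_ne hv (fun e' => absurd (h.iota_eq_one e') (by decide +kernel))
    (by rw [e, map_one])
  have hzv : z' * v' = v' * z' := h.comm_iff.1 (semi_comm hz hv (h.comm_iff.2 (by decide +kernel)))
  have hne : v' ≠ z' := fun e => absurd (h.inj (semi_inj hv hz (by rw [e]))) (by decide +kernel)
  obtain ⟨c, c4, c5, cz, cv⟩ := conj_pair hzz hz1 zs z4 z5 hvv hv1 vs v4 v5 hzv hne
  have hcs := comm_s7_of c4 c5
  have cz' : SemiconjBy (ι c)⁻¹ (ι z') (ι z7) := (cz.map ι).inv_symm_left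
  have cv' : SemiconjBy (ι c)⁻¹ (ι v') (ι v7) := (cv.map ι).inv_symm_left
  have cs' : SemiconjBy (ι c)⁻¹ (ι s7) (ι s7) := SemiconjBy.inv_symm_left (h.comm_iff.2 hcs)
  have ct' : SemiconjBy (ι c)⁻¹ t t := SemiconjBy.inv_symm_left (h.comm' c)
  exact ⟨(ι c)⁻¹ * m, (ct'.mul_right cs').mul_left m1, cs'.mul_left m2, cz'.mul_left hz, cv'.mul_left hv⟩

end Spl

/-- `{e₁, e₂, v, zv}` -/
def l4 : List (Perm (Fin 7)) := [e7, f7, v7, z7 * v7]

theorem mem_l4 {a : S7} (hz : a * z7 = z7 * a) (hc : a * c7 = c7 * a) (ha : a * a = 1) (h1 : a ≠ 1) (h2 : a ≠ z7) :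
    a ∈ l4 :=
  l48_all (P := fun p => p * c7 = c7 * p → p * p = 1 → p ≠ 1 → p ≠ z7 → p ∈ l4) (by decide +kernel) _ (mem_l48 hz)
    hc ha h1 h2

/-- the normal form of `n` -/
theorem nf_aux : l4.all (fun a => l4.all fun b => l48.all fun c => decide (a * b ≠ b * a → c * c = 1 →
    c * c7 = c7 * c7 * c → c * a = a * c → c * b = b * c → l48.any (fun w => decide (w * z7 = z7 * w ∧
      (w * a = v7 * w ∨ (w * a = e7 * w ∧ w * b = v7 * w)) ∧ (w * c = s7 * w ∨ w * c = (s7 * z7) * w))) = true)) =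
    true := by decide +kernel

namespace All

theorem mem_iota (h : All t ι) {x : G} (hx : x * t = t * x) (h2 : x * x = 1) (h1 : x ≠ 1) (hn : ¬ IsConj t x) :
    ∃ a, x = ι a ∧ a * a = 1 ∧ a ≠ 1 := by
  have hxx : ∀ a, (x = ι a ∨ x = t * ι a) → a * a = 1 := by
    rintro a (rfl | rfl)
    · exact h.iota_eq_one (by rw [map_mul, h2])
    · apply h.iota_eq_one
      rw [map_mul]
      calc ι a * ι a = t * (t * ι a) * ι a := by rw [h.tt_mul]
        _ = t * (ι a * t) * ι a := by rw [h.comm a]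
        _ = t * ι a * (t * ι a) := by group
        _ = 1 := h2
  obtain ⟨a, ha⟩ := h.cases hx
  have haa := hxx a ha
  rcases ha with rfl | rfl
  · exact ⟨a, rfl, haa, fun e => h1 (by rw [e, map_one])⟩
  · exfalso
    by_cases e : a = 1
    · apply hn
      rw [e, map_one, mul_one]
    · exact hn (h.yes a haa e)

/-- image of an involution `ι b` under an element `g` with `ι b` in the inverse image of `C(t)` -/
theorem img (h : All t ι) {g u : G} (hg : SemiconjBy g u t) {b : S7} (hb : b * b = 1) (hb1 : b ≠ 1)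
    (hbu : ι b * u = u * ι b) : ∃ a, SemiconjBy g (ι b) (ι a) ∧ a * a = 1 ∧ a ≠ 1 := by
  have h1 : SemiconjBy g (ι b) (g * ι b * g⁻¹) := by
    show g * ι b = g * ι b * g⁻¹ * g
    group
  obtain ⟨a, ha, haa, ha1⟩ := h.mem_iota (semi_comm h1 hg hbu)
    (semi_sq h1 (by rw [← map_mul, hb, map_one])) (semi_ne h1 fun e => hb1 (h.iota_eq_one e))
    (fun hc => h.no b hb hb1 (hc.trans (semi_conj h1).symm))
  exact ⟨a, ha ▸ h1, haa, ha1⟩

theorem exists_n (h : All t ι) : ∃ n, SemiconjBy n t (t * ι z7) ∧ SemiconjBy n (ι z7) (ι z7) ∧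
    (SemiconjBy n (ι v7) (ι v7) ∨ (SemiconjBy n (ι v7) (ι e7) ∧ SemiconjBy n (ι e7) (ι v7))) ∧
    (SemiconjBy n (ι s7) (ι s7) ∨ SemiconjBy n (ι s7) (ι (s7 * z7))) := by
  obtain ⟨n, n1, n2⟩ := h.lemmaG (y := z7) (by decide +kernel) (by decide +kernel)
    (h.yes _ (by decide +kernel) (by decide +kernel)) (h.no _ (by decide +kernel) (by decide +kernel))
  have hzz : ι z7 * ι z7 = 1 := by rw [← map_mul, show z7 * z7 = 1 by decide +kernel, map_one]
  have n3 : SemiconjBy n (t * ι z7) t := by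
    have := n1.mul_right n2
    rwa [mul_assoc, hzz, mul_one] at this
  have cm : ∀ a : S7, a * z7 = z7 * a → ι a * (t * ι z7) = t * ι z7 * ι a := by
    intro a ha
    rw [← mul_assoc, ← h.comm a, mul_assoc, mul_assoc, h.comm_iff.2 ha]
  -- the element of order 3
  obtain ⟨c, hc, hcc⟩ : ∃ c, SemiconjBy n (ι c7) (ι c) ∧ (c = c7 ∨ c = c7 * c7) := by
    have h1 : SemiconjBy n (ι c7) (n * ι c7 * n⁻¹) := by
      show n * ι c7 = n * ι c7 * n⁻¹ * n
      group
    have h3 := ((h1.mul_right h1).mul_right h1)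
    rw [← map_mul, ← map_mul, show c7 * c7 * c7 = 1 by decide +kernel, map_one] at h3
    have h4 : n * ι c7 * n⁻¹ * (n * ι c7 * n⁻¹) * (n * ι c7 * n⁻¹) = 1 := by
      have := h3.eq
      rw [mul_one] at this
      exact mul_eq_right.1 this.symm
    obtain ⟨c, hc, hc3⟩ := h.three (semi_comm h1 n3 (cm c7 (by decide +kernel))) h4
    rw [hc] at h1
    have h5 : c * z7 = z7 * c := h.comm_iff.1 (semi_comm h1 n2 (h.comm_iff.2 (by decide +kernel)))
    rcases three_z hc3 h5 with h6 | h6 | h6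
    · exfalso
      refine semi_ne h1 (fun e => absurd (h.iota_eq_one e) (by decide +kernel)) ?_
      rw [h6, map_one]
    · exact ⟨c, h1, Or.inl h6⟩
    · exact ⟨c, h1, Or.inr h6⟩
  have cc : ∀ a b : S7, SemiconjBy n (ι a) (ι b) → a * c7 = c7 * a → b * c7 = c7 * b := by
    intro a b hab ha
    have h1 : b * c = c * b := h.comm_iff.1 (semi_comm hab hc (h.comm_iff.2 ha))
    rcases hcc with rfl | rfl
    · exact h1
    · have h2 : c7 = c7 * c7 * (c7 * c7) := by decide +kernel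
      rw [h2]
      rw [← mul_assoc, h1, mul_assoc (c7 * c7) b, h1, ← mul_assoc]
  -- the image of an involution of the centralizer of `z` and `c`
  have im4 : ∀ b : S7, b * b = 1 → b ≠ 1 → b ≠ z7 → b * z7 = z7 * b → b * c7 = c7 * b →
      ∃ a, SemiconjBy n (ι b) (ι a) ∧ a ∈ l4 := by
    intro b hb hb1 hbz hz hcb
    obtain ⟨a, ha, haa, ha1⟩ := h.img n3 hb hb1 (cm b hz)
    refine ⟨a, ha, mem_l4 (h.comm_iff.1 (semi_comm ha n2 (h.comm_iff.2 hz))) (cc b a ha hcb) haa ha1 ?_⟩
    rintro rfl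
    exact hbz (h.inj (semi_inj ha n2 rfl))
  obtain ⟨v', hv, lv⟩ := im4 v7 (by decide +kernel) (by decide +kernel) (by decide +kernel) (by decide +kernel)
    (by decide +kernel)
  obtain ⟨e', he, le⟩ := im4 e7 (by decide +kernel) (by decide +kernel) (by decide +kernel) (by decide +kernel)
    (by decide +kernel)
  obtain ⟨s', hs, hss, hs1⟩ := h.img n3 (b := s7) (by decide +kernel) (by decide +kernel) (cm s7 (by decide +kernel))
  have sz : s' * z7 = z7 * s' := h.comm_iff.1 (semi_comm hs n2 (h.comm_iff.2 (by decide +kernel)))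
  have sv : s' * v' = v' * s' := h.comm_iff.1 (semi_comm hs hv (h.comm_iff.2 (by decide +kernel)))
  have se : s' * e' = e' * s' := h.comm_iff.1 (semi_comm hs he (h.comm_iff.2 (by decide +kernel)))
  have ve : v' * e' ≠ e' * v' := by
    intro e
    have := semi_comm hv.inv_symm_left he.inv_symm_left (h.comm_iff.2 e)
    exact absurd (h.comm_iff.1 this) (by decide +kernel)
  have sc : s' * c7 = c7 * c7 * s' := by
    have h1 : SemiconjBy n (ι (s7 * c7)) (ι (s' * c)) := by
      rw [map_mul, map_mul]; exact hs.mul_right hc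
    have h2 : SemiconjBy n (ι (c7 * c7 * s7)) (ι (c * c * s')) := by
      rw [map_mul, map_mul, map_mul, map_mul]; exact (hc.mul_right hc).mul_right hs
    have h3 : s' * c = c * c * s' := by
      apply h.inj
      have h4 := h1.eq
      rw [show s7 * c7 = c7 * c7 * s7 by decide +kernel, h2.eq] at h4
      exact (mul_right_cancel h4).symm
    rcases hcc with rfl | rfl
    · exact h3
    · have h4 : c7 * c7 * (c7 * c7) = c7 := by decide +kernel
      rw [h4] at h3
      calc s' * c7 = s' * (c7 * c7 * (c7 * c7)) := by rw [h4]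
        _ = c7 * c7 * s' := by rw [← mul_assoc, h3, mul_assoc c7 s', h3, ← mul_assoc]
  have key := of_decide_eq_true (List.all_eq_true.1 (List.all_eq_true.1 (List.all_eq_true.1 nf_aux v' lv) e' le)
    s' (mem_l48 sz)) ve hss sc sv se
  obtain ⟨w, -, hw⟩ := List.any_eq_true.1 key
  obtain ⟨wz, w1, w2⟩ := of_decide_eq_true hw
  have mp : ∀ a b : S7, w * a = b * w → SemiconjBy (ι w) (ι a) (ι b) := by
    intro a b hab
    have : SemiconjBy w a b := hab
    exact this.map ι
  have mt : SemiconjBy (ι w) t t := h.comm' w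
  refine ⟨ι w * n, (mt.mul_right (mp _ _ wz)).mul_left n1, (mp _ _ wz).mul_left n2, ?_, ?_⟩
  · rcases w1 with w1 | ⟨w1, w3⟩
    · exact Or.inl ((mp _ _ w1).mul_left hv)
    · exact Or.inr ⟨(mp _ _ w1).mul_left hv, (mp _ _ w3).mul_left he⟩
  · rcases w2 with w2 | w2
    · exact Or.inl ((mp _ _ w2).mul_left hs)
    · exact Or.inr ((mp _ _ w2).mul_left hs)

theorem semi_q {a b : S7} (h : q7 * a = b * q7) : SemiconjBy (ι q7) (ι a) (ι b) := by
  have : SemiconjBy q7 a b := h
  exact this.map ι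

/-- an element mapping `t → t z`, `z → z` maps `e₁` to an element commuting with `c = (4 5 6)` -/
theorem e_ne (h : All t ι) {n : G} (n1 : SemiconjBy n t (t * ι z7)) (n2 : SemiconjBy n (ι z7) (ι z7))
    (n4 : SemiconjBy n (ι e7) (ι (f7 * s7))) : False := by
  have hzz : ι z7 * ι z7 = 1 := by rw [← map_mul, show z7 * z7 = 1 by decide +kernel, map_one]
  have n3 : SemiconjBy n (t * ι z7) t := by
    have := n1.mul_right n2
    rwa [mul_assoc, hzz, mul_one] at this
  have cm : ∀ a : S7, a * z7 = z7 * a → ι a * (t * ι z7) = t * ι z7 * ι a := by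
    intro a ha
    rw [← mul_assoc, ← h.comm a, mul_assoc, mul_assoc, h.comm_iff.2 ha]
  have h1 : SemiconjBy n (ι c7) (n * ι c7 * n⁻¹) := by
    show n * ι c7 = n * ι c7 * n⁻¹ * n
    group
  have h3 := ((h1.mul_right h1).mul_right h1)
  rw [← map_mul, ← map_mul, show c7 * c7 * c7 = 1 by decide +kernel, map_one] at h3
  have h4 : n * ι c7 * n⁻¹ * (n * ι c7 * n⁻¹) * (n * ι c7 * n⁻¹) = 1 := by
    have := h3.eq
    rw [mul_one] at this
    exact mul_eq_right.1 this.symm
  obtain ⟨c, hc, hc3⟩ := h.three (semi_comm h1 n3 (cm c7 (by decide +kernel))) h4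
  rw [hc] at h1
  have h5 : c * z7 = z7 * c := h.comm_iff.1 (semi_comm h1 n2 (h.comm_iff.2 (by decide +kernel)))
  have h6 : c * (f7 * s7) = (f7 * s7) * c := h.comm_iff.1 (semi_comm h1 n4 (h.comm_iff.2 (by decide +kernel)))
  rcases three_z hc3 h5 with rfl | rfl | rfl
  · refine semi_ne h1 (fun e => absurd (h.iota_eq_one e) (by decide +kernel)) ?_
    rw [map_one]
  · exact absurd h6 (by decide +kernel)
  · exact absurd h6 (by decide +kernel)

/-- **The fusion element** (step (3)). -/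
theorem exists_p (h : All t ι) : ∃ p, SemiconjBy p t (t * ι z7) ∧ SemiconjBy p (ι z7) (ι z7) ∧
    SemiconjBy p (ι v7) (ι v7) ∧ SemiconjBy p (ι s7) (ι s7) := by
  obtain ⟨n, nt, nz, nv, ns⟩ := h.exists_n
  obtain ⟨m, mt, ms, mz, mv⟩ := h.exists_m (h.yes _ (by decide +kernel) (by decide +kernel))
    (h.no _ (by decide +kernel) (by decide +kernel))
  rcases nv with nv | ⟨nv, ne⟩
  · rcases ns with ns | ns
    · exact ⟨n, nt, nz, nv, ns⟩
    · -- `g = m⁻¹ n m` maps `t → t`, `s → s z`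
      exfalso
      have g1 : SemiconjBy (m⁻¹ * (n * m)) t t :=
        mt.inv_symm_left.mul_left ((semi_tmul nt ns (by decide +kernel)).mul_left mt)
      have g2 : SemiconjBy (m⁻¹ * (n * m)) (ι s7) (ι (s7 * z7)) :=
        (semi_mul ms mz rfl rfl).inv_symm_left.mul_left (ns.mul_left ms)
      have h1 := h.conj_of_comm g1.eq g2
      rw [show s7 * z7 = k7 by decide +kernel] at h1
      exact not_conj_sk h1
  · exfalso
    -- the element `ρ : z → v → zv → z` of `C(t) ∩ C(s)`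
    have mp : ∀ w a b : S7, w * a = b * w → SemiconjBy (ι w) (ι a) (ι b) := by
      intro w a b hab
      have : SemiconjBy w a b := hab
      exact this.map ι
    have rt : SemiconjBy (ι (r7 * r7)) t t := h.comm' _
    have rz : SemiconjBy (ι (r7 * r7)) (ι z7) (ι v7) := mp _ _ _ (by decide +kernel)
    have rv : SemiconjBy (ι (r7 * r7)) (ι v7) (ι (z7 * v7)) := mp _ _ _ (by decide +kernel)
    have rs : SemiconjBy (ι (r7 * r7)) (ι s7) (ι s7) := mp _ _ _ (by decide +kernel)
    have nf : SemiconjBy n (ι f7) (ι (z7 * v7)) := semi_mul nz ne (by decide +kernel) rfl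
    -- `k = n⁻¹ ρ m n`
    have he : SemiconjBy (n⁻¹ * (ι (r7 * r7) * (m * n))) (ι e7) (ι f7) :=
      nf.inv_symm_left.mul_left (rv.mul_left (mv.mul_left ne))
    have hz : SemiconjBy (n⁻¹ * (ι (r7 * r7) * (m * n))) (ι z7) (ι e7) :=
      ne.inv_symm_left.mul_left (rz.mul_left (mz.mul_left nz))
    have ht0 : SemiconjBy (ι (r7 * r7) * (m * n)) t (t * ι (s7 * v7)) :=
      (semi_tmul0 rt (semi_mul rs rz rfl rfl)).mul_left ((semi_tmul mt mz rfl).mul_left nt)
    rcases ns with ns | ns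
    · -- `s → s`
      have ht : SemiconjBy (n⁻¹ * (ι (r7 * r7) * (m * n))) t (t * ι (s7 * f7)) :=
        SemiconjBy.mul_left (SemiconjBy.inv_symm_left (semi_tmul nt (semi_mul ns nf rfl rfl)
          (by decide +kernel))) ht0
      have hs : SemiconjBy (n⁻¹ * (ι (r7 * r7) * (m * n))) (ι s7) (ι s7) :=
        ns.inv_symm_left.mul_left (rs.mul_left (ms.mul_left ns))
      generalize n⁻¹ * (ι (r7 * r7) * (m * n)) = k at he hz ht hs
      -- `k' = q² k q²`
      have qt : SemiconjBy (ι (q7 * q7)) t t := h.comm' _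
      have q1 : SemiconjBy (ι (q7 * q7)) (ι e7) (ι s7) := mp _ _ _ (by decide +kernel)
      have q2 : SemiconjBy (ι (q7 * q7)) (ι s7) (ι f7) := mp _ _ _ (by decide +kernel)
      have q3 : SemiconjBy (ι (q7 * q7)) (ι f7) (ι e7) := mp _ _ _ (by decide +kernel)
      have kt : SemiconjBy (ι (q7 * q7) * (k * ι (q7 * q7))) t (t * ι z7) :=
        (semi_tmul0 qt (semi_mul q2 q3 rfl (by decide +kernel))).mul_left (ht.mul_left qt)
      have ke : SemiconjBy (ι (q7 * q7) * (k * ι (q7 * q7))) (ι e7) (ι f7) :=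
        q2.mul_left (hs.mul_left q1)
      have kz : SemiconjBy (ι (q7 * q7) * (k * ι (q7 * q7))) (ι z7) (ι z7) :=
        -- z = e f → s e → s f → f e
        (semi_mul q2 q3 rfl (by decide +kernel)).mul_left
          ((semi_mul hs he rfl rfl).mul_left (semi_mul q1 q3 (by decide +kernel) rfl))
      have kf : SemiconjBy (ι (q7 * q7) * (k * ι (q7 * q7))) (ι f7) (ι e7) :=
        semi_mul kz ke (by decide +kernel) (by decide +kernel)
      generalize ι (q7 * q7) * (k * ι (q7 * q7)) = k' at kt ke kz kf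
      have g1 : SemiconjBy (k'⁻¹ * n) t t := kt.inv_symm_left.mul_left nt
      have g2 : SemiconjBy (k'⁻¹ * n) (ι v7) (ι f7) := kf.inv_symm_left.mul_left nv
      have h1 := sign_conj (h.conj_of_comm g1.eq g2)
      exact absurd h1 (by decide +kernel)
    · -- `s → s z`
      have ht : SemiconjBy (n⁻¹ * (ι (r7 * r7) * (m * n))) t (t * ι (s7 * e7)) :=
        SemiconjBy.mul_left (SemiconjBy.inv_symm_left (semi_tmul nt (semi_mul ns ne rfl rfl)
          (by decide +kernel))) ht0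
      have hs : SemiconjBy (n⁻¹ * (ι (r7 * r7) * (m * n))) (ι s7) (ι (s7 * f7)) :=
        (semi_mul ns nf rfl (by decide +kernel : s7 * z7 * (z7 * v7) = s7 * v7)).inv_symm_left.mul_left
          ((semi_mul rs rz rfl rfl).mul_left ((semi_mul ms mz rfl rfl).mul_left ns))
      generalize n⁻¹ * (ι (r7 * r7) * (m * n)) = k at he hz ht hs
      have qt : SemiconjBy (ι q7) t t := h.comm' _
      have q1 : SemiconjBy (ι q7) (ι e7) (ι f7) := mp _ _ _ (by decide +kernel)
      have q2 : SemiconjBy (ι q7) (ι f7) (ι s7) := mp _ _ _ (by decide +kernel)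
      have q3 : SemiconjBy (ι q7) (ι s7) (ι e7) := mp _ _ _ (by decide +kernel)
      have hf : SemiconjBy k (ι f7) (ι z7) := semi_mul hz he (by decide +kernel) (by decide +kernel)
      have kt : SemiconjBy (ι q7 * (k * ι q7)) t (t * ι z7) :=
        (semi_tmul0 qt (semi_mul q3 q1 rfl (by decide +kernel))).mul_left (ht.mul_left qt)
      have kz : SemiconjBy (ι q7 * (k * ι q7)) (ι z7) (ι z7) :=
        -- e f → f s → z (s f) = s e → e f
        (semi_mul q3 q1 rfl (by decide +kernel)).mul_left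
          ((semi_mul hf hs rfl (by decide +kernel)).mul_left (semi_mul q1 q2 (by decide +kernel) rfl))
      have ke : SemiconjBy (ι q7 * (k * ι q7)) (ι e7) (ι (f7 * s7)) := by
        have h1 : SemiconjBy (ι q7) (ι z7) (ι (f7 * s7)) := mp _ _ _ (by decide +kernel)
        exact h1.mul_left (hf.mul_left q1)
      exact h.e_ne kt kz ke

end All

end Cfsg.Agent.OddHalf.D5.Seven

end
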