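import Cfsg.Agent.OddHalf.D5.Seven.Defs
import Cfsg.Agent.StdL3.OneParity
import Cfsg.Agent.StandardComponent.AltAut
import Cfsg.Agent.OddHalf.D5.Seven.Diag
import Cfsg.Agent.Schreier.Tools

-- merged: Cfsg.Agent.OddHalf.D5.Seven.End
section

/-!
# ODD D5, `n = 7`: the end (helper905; text: `blueprints/ODD-D5-n7-helper858.md`, section 4)

`false_of_two`: `H` = the stabiliser of `{K₁, K₁ᵗ}` contains `C_G(t)`, every conjugate of `t` in `H` which interchanges
`K₁` and `K₁ᵗ` is `H`-conjugate to `t`; the transfer of the sign of `H` at `t` is `-1`.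
-/

set_option autoImplicit false

namespace Cfsg.Agent.OddHalf.D5.Seven

namespace End

open Subgroup Equiv Cfsg.Agent.OddHalf.D3 Cfsg.Agent.OddHalf.D5.Seven
open scoped commutatorElement

/-! ### generalities -/

/-- Two epimorphisms with the same kernel differ by an automorphism of the image. -/
theorem exists_aut {K A : Type*} [Group K] [Group A] (f g : K →* A) (hf : Function.Surjective f)
    (hg : Function.Surjective g) (hk : f.ker = g.ker) : ∃ e : MulAut A, ∀ k, e (f k) = g k := by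
  refine ⟨((QuotientGroup.quotientKerEquivOfSurjective f hf).symm.trans
    (QuotientGroup.quotientMulEquivOfEq hk)).trans (QuotientGroup.quotientKerEquivOfSurjective g hg), ?_⟩
  intro k
  have h1 : (QuotientGroup.quotientKerEquivOfSurjective f hf).symm (f k) = (k : K ⧸ f.ker) := by
    rw [MulEquiv.symm_apply_eq]
    rfl
  show (QuotientGroup.quotientKerEquivOfSurjective g hg) ((QuotientGroup.quotientMulEquivOfEq hk)
    ((QuotientGroup.quotientKerEquivOfSurjective f hf).symm (f k))) = g k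
  rw [h1]
  rfl

/-- The centraliser of `A₇` in `S₇` is trivial. -/
theorem eq_one_of_comm {a : S7} (h : ∀ s : S7, Perm.sign s = 1 → a * s = s * a) : a = 1 := by
  by_contra hne
  have h1 : ∃ i, a i ≠ i := by
    by_contra hcon
    push Not at hcon
    exact hne (Equiv.ext hcon)
  obtain ⟨i, hi⟩ := h1
  have h2 : ∀ i m : Fin 7, ∃ j k : Fin 7, j ≠ i ∧ j ≠ m ∧ k ≠ i ∧ k ≠ m ∧ j ≠ k := by decide
  obtain ⟨j, k, hji, hjm, hki, hkm, hjk⟩ := h2 i (a i)
  have h3 := congrArg (fun f : S7 => f i) (h (swap (a i) j * swap j k) (by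
    rw [map_mul, Perm.sign_swap hjm.symm, Perm.sign_swap hjk]; rfl))
  simp only [Perm.mul_apply] at h3
  rw [swap_apply_of_ne_of_ne hji.symm hki.symm, swap_apply_of_ne_of_ne hi.symm hji.symm,
    swap_apply_of_ne_of_ne hjm.symm hkm.symm, swap_apply_left] at h3
  exact hjm h3.symm

/-- A group without subgroup of index two has no sign. -/
theorem hom_eq_one {G : Type*} [Group G] (hG : ∀ H : Subgroup G, H.index ≠ 2) (f : G →* ℤˣ) (u : G) :
    f u = 1 := by
  by_contra hne
  have h1 : f u = -1 := (Int.units_eq_one_or (f u)).resolve_left hne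
  have h2 : Function.Surjective f := by
    intro y
    rcases Int.units_eq_one_or y with rfl | rfl
    · exact ⟨1, map_one f⟩
    · exact ⟨u, h1⟩
  apply hG f.ker
  rw [index_ker, MonoidHom.range_eq_top.2 h2, card_top]
  simp

variable {G : Type*} [Group G] {t : G} {ι : S7 →* G} {K₁ : Subgroup G}

/-! ### The two factors -/

theorem com (T : Two t ι K₁) {x z : G} (hx : x ∈ K₁) (hz : z ∈ cj t K₁) : x * z = z * x := by
  rw [mem_cj] at hz
  have h1 := T.comm x hx _ hz
  have h2 : t * (t⁻¹ * z * t) * t⁻¹ = z := by group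
  rwa [h2] at h1

theorem cj_tt (h : Spl t ι) (K : Subgroup G) : cj t (cj t K) = K := by
  rw [cj_cj, h.tt, cj_one]

theorem not_comm (h : Spl t ι) (T : Two t ι K₁) : ¬ ∀ x ∈ K₁, ∀ y ∈ K₁, x * y = y * x := by
  intro hc
  have h1 : K₁ = ⊥ := by
    rw [eq_bot_iff, ← T.perf, commutator_le]
    intro x hx y hy
    rw [commutatorElement_eq_one_iff_mul_comm.2 (hc x hx y hy)]
    exact one_mem _
  have h2 : (swap 0 1 * swap 1 2 : S7) ≠ 1 := by decide
  obtain ⟨x, hx, hs⟩ := T.ex (swap 0 1 * swap 1 2) (by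
    rw [map_mul, Perm.sign_swap (by decide), Perm.sign_swap (by decide)]; rfl)
  rw [h1, mem_bot] at hx
  rw [hx, mul_one, mul_inv_cancel, mul_one] at hs
  exact h2 (h.iota_eq_one hs.symm)

theorem ne (h : Spl t ι) (T : Two t ι K₁) : cj t K₁ ≠ K₁ := by
  intro e
  apply not_comm h T
  intro x hx y hy
  apply com T hx
  rwa [e]

/-! ### The map `φ` -/

/-- the value of `φ` -/
noncomputable def val (T : Two t ι K₁) (k : K₁) : S7 := (T.mem k k.2).choose

theorem val_sign (T : Two t ι K₁) (k : K₁) : Perm.sign (val T k) = 1 := (T.mem k k.2).choose_spec.1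

theorem val_eq (T : Two t ι K₁) (k : K₁) : (k : G) * (t * k * t⁻¹) = ι (val T k) :=
  (T.mem k k.2).choose_spec.2

theorem mul_form (T : Two t ι K₁) {k l : G} (hk : k ∈ K₁) (hl : l ∈ K₁) :
    (k * l) * (t * (k * l) * t⁻¹) = k * (t * k * t⁻¹) * (l * (t * l * t⁻¹)) := by
  have h1 := T.comm l hl k hk
  calc (k * l) * (t * (k * l) * t⁻¹) = k * (l * (t * k * t⁻¹)) * (t * l * t⁻¹) := by group
    _ = k * (t * k * t⁻¹ * l) * (t * l * t⁻¹) := by rw [h1]
    _ = k * (t * k * t⁻¹) * (l * (t * l * t⁻¹)) := by group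

/-- `k ↦ k kᵗ` -/
noncomputable def phi (h : Spl t ι) (T : Two t ι K₁) : K₁ →* alternatingGroup (Fin 7) :=
  MonoidHom.mk' (fun k => ⟨val T k, val_sign T k⟩) (by
    intro k l
    apply Subtype.ext
    apply h.inj
    show ι (val T (k * l)) = ι (val T k * val T l)
    rw [map_mul, ← val_eq, ← val_eq, ← val_eq, coe_mul]
    exact mul_form T k.2 l.2)

theorem phi_eq (h : Spl t ι) (T : Two t ι K₁) (k : K₁) :
    (k : G) * (t * k * t⁻¹) = ι ((phi h T k : alternatingGroup (Fin 7)) : S7) := val_eq T k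

theorem phi_surj (h : Spl t ι) (T : Two t ι K₁) : Function.Surjective (phi h T) := by
  intro s
  obtain ⟨x, hx, hs⟩ := T.ex s (Perm.mem_alternatingGroup.1 s.2)
  refine ⟨⟨x, hx⟩, Subtype.ext (h.inj ?_)⟩
  rw [← phi_eq h T ⟨x, hx⟩]
  exact hs

theorem mem_ker (h : Spl t ι) (T : Two t ι K₁) (k : K₁) : k ∈ (phi h T).ker ↔ ∀ l : K₁, k * l = l * k := by
  constructor
  · intro hk l
    have h1 := phi_eq h T k
    rw [MonoidHom.mem_ker.1 hk, coe_one, map_one] at h1
    have h2 := T.comm l l.2 k k.2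
    rw [eq_inv_of_mul_eq_one_right h1] at h2
    apply Subtype.ext
    show (k : G) * l = l * k
    calc (k : G) * l = k * (l * (k : G)⁻¹) * k := by group
      _ = k * ((k : G)⁻¹ * l) * k := by rw [h2]
      _ = l * k := by group
  · intro hk
    rw [MonoidHom.mem_ker]
    apply Subtype.ext
    apply eq_one_of_comm
    intro s hs
    obtain ⟨l, hl⟩ := phi_surj h T ⟨s, hs⟩
    have h1 := congrArg (phi h T) (hk l)
    rw [map_mul, map_mul, hl] at h1
    exact congrArg (Subtype.val) h1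

/-! ### The action of `g` on `K₁/Z(K₁) = A₇` -/

/-- `g` acts on the image of `φ` as conjugation by `σ`. -/
def Psi (t : G) (ι : S7 →* G) (K₁ : Subgroup G) (g : G) (σ : S7) : Prop :=
  ∀ k ∈ K₁, ∀ s : S7, k * (t * k * t⁻¹) = ι s →
    (g * k * g⁻¹) * (t * (g * k * g⁻¹) * t⁻¹) = ι (σ * s * σ⁻¹)

theorem conj_mem {g k : G} (hg : cj g K₁ = K₁) (hk : k ∈ K₁) : g * k * g⁻¹ ∈ K₁ := by
  have := conj_mem_cj (g := g) hk
  rwa [hg] at this

theorem cj_inv_eq {g : G} {K : Subgroup G} (hg : cj g K = K) : cj g⁻¹ K = K := by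
  conv_lhs => rw [← hg]
  rw [cj_inv_cj]

theorem inv_conj_mem {g k : G} (hg : cj g K₁ = K₁) (hk : k ∈ K₁) : g⁻¹ * k * g ∈ K₁ := by
  have := conj_mem (cj_inv_eq hg) hk
  rwa [inv_inv] at this

/-- conjugation on `K₁` -/
def conjHom (g : G) (hg : cj g K₁ = K₁) : K₁ →* K₁ :=
  MonoidHom.mk' (fun k => ⟨g * k * g⁻¹, conj_mem hg k.2⟩) (by
    intro k l
    apply Subtype.ext
    show g * (k * l) * g⁻¹ = (g * k * g⁻¹) * (g * l * g⁻¹)
    group)

theorem conjHom_surj (g : G) (hg : cj g K₁ = K₁) : Function.Surjective (conjHom g hg) := by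
  intro k
  refine ⟨⟨g⁻¹ * k * g, inv_conj_mem hg k.2⟩, Subtype.ext ?_⟩
  show g * (g⁻¹ * k * g) * g⁻¹ = k
  group

theorem conjHom_inj (g : G) (hg : cj g K₁ = K₁) : Function.Injective (conjHom g hg) := by
  intro k l hkl
  have h1 : g * k * g⁻¹ = g * l * g⁻¹ := congrArg Subtype.val hkl
  exact Subtype.ext (mul_left_cancel (mul_right_cancel h1))

theorem exists_psi (h : Spl t ι) (T : Two t ι K₁) {g : G} (hg : cj g K₁ = K₁) : ∃ σ, Psi t ι K₁ g σ := by
  have hk : (phi h T).ker = ((phi h T).comp (conjHom g hg)).ker := by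
    ext k
    rw [mem_ker, MonoidHom.mem_ker, MonoidHom.comp_apply, ← MonoidHom.mem_ker, mem_ker]
    constructor
    · intro hk l
      obtain ⟨m, rfl⟩ := conjHom_surj g hg l
      rw [← map_mul, ← map_mul, hk m]
    · intro hk l
      apply conjHom_inj g hg
      rw [map_mul, map_mul, hk]
  obtain ⟨e, he⟩ := exists_aut (phi h T) ((phi h T).comp (conjHom g hg)) (phi_surj h T)
    ((phi_surj h T).comp (conjHom_surj g hg)) hk
  obtain ⟨σ, hσ⟩ := StandardComponent.AltAut.exists_conj (m := 5) le_rfl e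
  refine ⟨σ, ?_⟩
  intro k hk s hs
  have h1 := phi_eq h T ⟨k, hk⟩
  have h2 := phi_eq h T (conjHom g hg ⟨k, hk⟩)
  have h3 := he ⟨k, hk⟩
  rw [MonoidHom.comp_apply] at h3
  rw [← h3, hσ] at h2
  have h4 : ((phi h T ⟨k, hk⟩ : alternatingGroup (Fin 7)) : S7) = s := h.inj (h1.symm.trans hs)
  rw [h4] at h2
  exact h2

theorem Psi.mul {g g' : G} {σ σ' : S7} (hg : Psi t ι K₁ g σ) (hg' : Psi t ι K₁ g' σ')
    (hn : cj g' K₁ = K₁) : Psi t ι K₁ (g * g') (σ * σ') := by
  intro k hk s hs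
  have h1 := hg _ (conj_mem hn hk) _ (hg' k hk s hs)
  have e1 : g * g' * k * (g * g')⁻¹ = g * (g' * k * g'⁻¹) * g⁻¹ := by group
  have e2 : σ * σ' * s * (σ * σ')⁻¹ = σ * (σ' * s * σ'⁻¹) * σ⁻¹ := by group
  rw [e1, e2]
  exact h1

theorem Psi.inv (h : Spl t ι) (T : Two t ι K₁) {g : G} {σ : S7} (hg : Psi t ι K₁ g σ)
    (hn : cj g K₁ = K₁) : Psi t ι K₁ g⁻¹ σ⁻¹ := by
  intro k hk s hs
  have hk' := inv_conj_mem hn hk
  obtain ⟨s', _, hs'⟩ := T.mem _ hk'
  have h1 := hg _ hk' _ hs'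
  have e1 : g * (g⁻¹ * k * g) * g⁻¹ = k := by group
  rw [e1] at h1
  have e2 : s = σ * s' * σ⁻¹ := h.inj (hs.symm.trans h1)
  rw [inv_inv, hs', e2, inv_inv]
  congr 1
  group

theorem psi_iota (h : Spl t ι) (e : S7) : Psi t ι K₁ (ι e) e := by
  intro k _ s hs
  have h1 := h.comm e
  have h2 : t * (ι e)⁻¹ = (ι e)⁻¹ * t := by
    rw [← map_inv]; exact h.comm e⁻¹
  have h3 : (ι e)⁻¹ * t⁻¹ = t⁻¹ * (ι e)⁻¹ := by
    rw [h.t_inv]; exact h2.symm
  rw [map_mul, map_mul, map_inv, ← hs]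
  calc ι e * k * (ι e)⁻¹ * (t * (ι e * k * (ι e)⁻¹) * t⁻¹)
      = ι e * k * (ι e)⁻¹ * ((t * ι e) * k * ((ι e)⁻¹ * t⁻¹)) := by group
    _ = ι e * k * (ι e)⁻¹ * ((ι e * t) * k * (t⁻¹ * (ι e)⁻¹)) := by rw [h1, h3]
    _ = ι e * (k * (t * k * t⁻¹)) * (ι e)⁻¹ := by group

/-! ### Involutions outside -/

/-- Elements which act trivially modulo the centre act trivially. -/
theorem comm_of_psi_one (h : Spl t ι) (T : Two t ι K₁) {c : G} (hn : cj c K₁ = K₁) (hc : Psi t ι K₁ c 1) :
    ∀ k ∈ K₁, c * k = k * c := by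
  have h1 : ∀ k ∈ K₁, ∃ z, (∀ l ∈ K₁, z * l = l * z) ∧ c * k * c⁻¹ = z * k := by
    intro k hk
    refine ⟨c * k * c⁻¹ * k⁻¹, ?_, by group⟩
    have hck := conj_mem hn hk
    obtain ⟨s, _, hs⟩ := T.mem k hk
    have h2 := hc k hk s hs
    rw [one_mul, inv_one, mul_one] at h2
    have h3 : (⟨c * k * c⁻¹, hck⟩ : K₁) * ⟨k, hk⟩⁻¹ ∈ (phi h T).ker := by
      rw [MonoidHom.mem_ker, map_mul, map_inv, mul_inv_eq_one]
      apply Subtype.ext
      apply h.inj
      rw [← phi_eq h T, ← phi_eq h T]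
      exact h2.trans hs.symm
    intro l hl
    exact congrArg Subtype.val ((mem_ker h T _).1 h3 ⟨l, hl⟩)
  have h2 : K₁ ≤ centralizer ({c} : Set G) := by
    conv_lhs => rw [← T.perf]
    rw [commutator_le]
    intro a ha b hb
    rw [mem_cs]
    obtain ⟨y, hy, hya⟩ := h1 a ha
    obtain ⟨z, hz, hzb⟩ := h1 b hb
    have e1 : c * ⁅a, b⁆ * c⁻¹ = ⁅y * a, z * b⁆ := by
      rw [← hya, ← hzb, commutatorElement_def, commutatorElement_def]; group
    have hyz : y * z = z * y := by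
      have hz1 : z ∈ K₁ := by
        have : z = c * b * c⁻¹ * b⁻¹ := by rw [hzb]; group
        rw [this]
        exact mul_mem (conj_mem hn hb) (inv_mem hb)
      exact hy z hz1
    have e2 : ⁅y * a, z * b⁆ = ⁅a, b⁆ := by
      rw [commutatorElement_def, commutatorElement_def, mul_inv_rev, mul_inv_rev]
      have hya' := hy a ha
      have hyb := hy b hb
      have hza := hz a ha
      have hzb' := hz b hb
      calc y * a * (z * b) * (a⁻¹ * y⁻¹) * (b⁻¹ * z⁻¹)
          = y * (a * z) * b * a⁻¹ * y⁻¹ * b⁻¹ * z⁻¹ := by group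
        _ = y * (z * a) * b * a⁻¹ * y⁻¹ * b⁻¹ * z⁻¹ := by rw [hza]
        _ = (y * z) * a * b * a⁻¹ * y⁻¹ * b⁻¹ * z⁻¹ := by group
        _ = (z * y) * a * b * a⁻¹ * y⁻¹ * b⁻¹ * z⁻¹ := by rw [hyz]
        _ = z * (y * (a * b * a⁻¹)) * y⁻¹ * b⁻¹ * z⁻¹ := by group
        _ = z * ((a * b * a⁻¹) * y) * y⁻¹ * b⁻¹ * z⁻¹ := by
            rw [hy (a * b * a⁻¹) (mul_mem (mul_mem ha hb) (inv_mem ha))]
        _ = (z * (a * b * a⁻¹ * b⁻¹)) * z⁻¹ := by group
        _ = ((a * b * a⁻¹ * b⁻¹) * z) * z⁻¹ := by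
            rw [hz (a * b * a⁻¹ * b⁻¹) (mul_mem (mul_mem (mul_mem ha hb) (inv_mem ha)) (inv_mem hb))]
        _ = a * b * a⁻¹ * b⁻¹ := by group
    rw [e2] at e1
    calc ⁅a, b⁆ * c = (c * ⁅a, b⁆ * c⁻¹) * c := by rw [e1]
      _ = c * ⁅a, b⁆ := by group
  intro k hk
  exact (mem_cs.1 (h2 hk)).symm

/-- `t` has no fixed points on the centraliser of `K₁K₂`. -/
theorem fix_eq_one (h : Spl t ι) (T : Two t ι K₁) {b : G} (h1 : ∀ k ∈ K₁, b * k = k * b)
    (h2 : ∀ k ∈ cj t K₁, b * k = k * b) (hb : b * t = t * b) : b = 1 := by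
  have key : ∀ s : S7, Perm.sign s = 1 → b * ι s = ι s * b := by
    intro s hs
    obtain ⟨x, hx, hxs⟩ := T.ex s hs
    rw [← hxs]
    have e1 := h1 x hx
    have e2 := h2 _ (conj_mem_cj (g := t) hx)
    calc b * (x * (t * x * t⁻¹)) = (b * x) * (t * x * t⁻¹) := by group
      _ = (x * b) * (t * x * t⁻¹) := by rw [e1]
      _ = x * (b * (t * x * t⁻¹)) := by group
      _ = x * ((t * x * t⁻¹) * b) := by rw [e2]
      _ = x * (t * x * t⁻¹) * b := by group
  obtain ⟨a, ha | ha⟩ := h.cases hb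
  · have : a = 1 := by
      apply eq_one_of_comm
      intro s hs
      apply h.inj
      rw [map_mul, map_mul, ← ha]
      exact key s hs
    rw [ha, this, map_one]
  · exfalso
    have : a = 1 := by
      apply eq_one_of_comm
      intro s hs
      apply h.inj
      rw [map_mul, map_mul]
      have h3 := key s hs
      rw [ha] at h3
      have h4 : t * (ι a * ι s) = t * (ι s * ι a) := by
        calc t * (ι a * ι s) = t * ι a * ι s := by group
          _ = ι s * (t * ι a) := h3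
          _ = (ι s * t) * ι a := by group
          _ = (t * ι s) * ι a := by rw [h.comm s]
          _ = t * (ι s * ι a) := by group
      exact mul_left_cancel h4
    rw [this, map_one, mul_one] at ha
    rw [ha] at h1
    exact ne h T (cj_eq_of_mem_centralizer (by
      rw [mem_centralizer_iff]
      intro k hk
      exact (h1 k hk).symm))

/-- `g` fixes both factors. -/
structure Good (t : G) (K₁ : Subgroup G) (g : G) : Prop where
  one : cj g K₁ = K₁
  two : cj g (cj t K₁) = cj t K₁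

theorem Good.mul {g g' : G} (h1 : Good t K₁ g) (h2 : Good t K₁ g') : Good t K₁ (g * g') where
  one := by rw [← cj_cj, h2.one, h1.one]
  two := by rw [← cj_cj, h2.two, h1.two]

theorem Good.inv {g : G} (h1 : Good t K₁ g) : Good t K₁ g⁻¹ where
  one := cj_inv_eq h1.one
  two := cj_inv_eq h1.two

theorem good_iota (h : Spl t ι) (T : Two t ι K₁) (a : S7) : Good t K₁ (ι a) where
  one := T.norm a
  two := by rw [cj_cj, ← h.comm a, ← cj_cj, T.norm]

theorem good_of_comm {b : G} (h1 : ∀ k ∈ K₁, b * k = k * b) (h2 : ∀ k ∈ cj t K₁, b * k = k * b) :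
    Good t K₁ b where
  one := cj_eq_of_mem_centralizer (by
      rw [mem_centralizer_iff]
      intro k hk
      exact (h1 k hk).symm)
  two := cj_eq_of_mem_centralizer (by
      rw [mem_centralizer_iff]
      intro k hk
      exact (h2 k hk).symm)

theorem even_case [Finite G] (h : Spl t ι) (T : Two t ι K₁) {g : G} (hg : Good t K₁ g) {σ : S7}
    (hσ : Psi t ι K₁ g σ) (hs : Perm.sign σ = 1) (h2 : (t * g) * (t * g) = 1) :
    ∃ y, Good t K₁ y ∧ t * g = y⁻¹ * t * y := by
  obtain ⟨k, hk, hkσ⟩ := T.ex σ hs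
  -- `c = k⁻¹ g` centralises `K₁`
  have hn : cj (k⁻¹ * g) K₁ = K₁ := by
    rw [← cj_cj, hg.one, cj_eq_of_mem (inv_mem hk)]
  have hpk : Psi t ι K₁ k⁻¹ σ⁻¹ := by
    intro l hl s hls
    rw [inv_inv, mul_form T (mul_mem (inv_mem hk) hl) hk, mul_form T (inv_mem hk) hl, hls, hkσ]
    have e1 : k⁻¹ * (t * k⁻¹ * t⁻¹) = ι σ⁻¹ := by
      rw [map_inv, ← hkσ]
      have e2 := T.comm k hk k hk
      have e3 : (k * (t * k * t⁻¹))⁻¹ = (t * k * t⁻¹ * k)⁻¹ := by rw [e2]
      rw [e3]
      group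
    rw [e1, map_mul, map_mul, inv_inv]
  have hc1 : Psi t ι K₁ (k⁻¹ * g) 1 := by
    have := hpk.mul hσ hg.one
    rwa [inv_mul_cancel] at this
  have hc := comm_of_psi_one h T hn hc1
  obtain ⟨c, hcdef⟩ : ∃ c, c = k⁻¹ * g := ⟨_, rfl⟩
  rw [← hcdef] at hc
  have hgkc : g = k * c := by rw [hcdef]; group
  obtain ⟨u, hu⟩ : ∃ u, u = t * k * t⁻¹ := ⟨_, rfl⟩
  have hu2 : u ∈ cj t K₁ := by rw [hu]; exact conj_mem_cj hk
  -- `h1 = c u`
  obtain ⟨d, hd⟩ : ∃ d, d = c * u := ⟨_, rfl⟩
  have hd1 : ∀ l ∈ K₁, d * l = l * d := by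
    intro l hl
    rw [hd]
    calc c * u * l = c * (u * l) := by group
      _ = c * (l * u) := by rw [com T hl hu2]
      _ = (c * l) * u := by group
      _ = (l * c) * u := by rw [hc l hl]
      _ = l * (c * u) := by group
  have hx : u⁻¹ * (t * g) * u = t * d := by
    rw [hgkc, hd, hu]; group
  have hdd : (t * d) * (t * d) = 1 := by
    rw [← hx]
    calc u⁻¹ * (t * g) * u * (u⁻¹ * (t * g) * u) = u⁻¹ * ((t * g) * (t * g)) * u := by group
      _ = 1 := by rw [h2]; group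
  have hti := h.t_inv
  have htd : t * d * t⁻¹ = d⁻¹ := by
    rw [hti, eq_inv_iff_mul_eq_one, ← hdd]; group
  have hd2 : ∀ l ∈ cj t K₁, d * l = l * d := by
    intro l hl
    rw [mem_cj] at hl
    have e1 := hd1 _ hl
    have e2 : d⁻¹ * l = l * d⁻¹ := by
      calc d⁻¹ * l = t * (d * (t⁻¹ * l * t)) * t⁻¹ := by rw [← htd]; group
        _ = t * ((t⁻¹ * l * t) * d) * t⁻¹ := by rw [e1]
        _ = l * d⁻¹ := by rw [← htd]; group
    calc d * l = d * (l * d⁻¹) * d := by group
      _ = d * (d⁻¹ * l) * d := by rw [e2]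
      _ = l * d := by group
  -- the map `b ↦ (t b⁻¹ t⁻¹) b`
  let B : Subgroup G := centralizer (K₁ : Set G) ⊓ centralizer ((cj t K₁ : Subgroup G) : Set G)
  have hB : ∀ b : G, b ∈ B ↔ (∀ k ∈ K₁, b * k = k * b) ∧ ∀ k ∈ cj t K₁, b * k = k * b := by
    intro b
    rw [mem_inf, mem_centralizer_iff, mem_centralizer_iff]
    constructor
    · rintro ⟨e1, e2⟩
      exact ⟨fun k hk => (e1 k hk).symm, fun k hk => (e2 k hk).symm⟩
    · rintro ⟨e1, e2⟩
      exact ⟨fun k hk => (e1 k hk).symm, fun k hk => (e2 k hk).symm⟩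
  have hBt : ∀ b ∈ B, t * b * t⁻¹ ∈ B := by
    have e1 : cj t B = B := by
      show cj t (centralizer (K₁ : Set G) ⊓ centralizer ((cj t K₁ : Subgroup G) : Set G)) =
        centralizer (K₁ : Set G) ⊓ centralizer ((cj t K₁ : Subgroup G) : Set G)
      rw [show cj t (centralizer (K₁ : Set G) ⊓ centralizer ((cj t K₁ : Subgroup G) : Set G)) =
        cj t (centralizer (K₁ : Set G)) ⊓ cj t (centralizer ((cj t K₁ : Subgroup G) : Set G)) from
          Subgroup.map_inf _ _ _ (MulAut.conj t).injective, cj_centralizer, cj_centralizer, cj_tt h, inf_comm]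
    intro b hb
    have := conj_mem_cj (g := t) hb
    rwa [e1] at this
  let f : B → B := fun b => ⟨t * (b : G)⁻¹ * t⁻¹ * b, mul_mem (hBt _ (inv_mem b.2)) b.2⟩
  have hf : Function.Injective f := by
    intro b b' e
    have e1 : t * (b : G)⁻¹ * t⁻¹ * b = t * (b' : G)⁻¹ * t⁻¹ * b' := congrArg Subtype.val e
    have e2 : ((b' : G) * (b : G)⁻¹) * t = t * ((b' : G) * (b : G)⁻¹) := by
      calc ((b' : G) * (b : G)⁻¹) * t = t * b' * t⁻¹ * (t * (b' : G)⁻¹ * t⁻¹ * b') * (b : G)⁻¹ * t := by group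
        _ = t * b' * t⁻¹ * (t * (b : G)⁻¹ * t⁻¹ * b) * (b : G)⁻¹ * t := by rw [e1]
        _ = t * ((b' : G) * (b : G)⁻¹) := by group
    have e3 : (b' : G) * (b : G)⁻¹ ∈ B := mul_mem b'.2 (inv_mem b.2)
    have e4 := fix_eq_one h T ((hB _).1 e3).1 ((hB _).1 e3).2 e2
    exact Subtype.ext (mul_inv_eq_one.1 e4).symm
  obtain ⟨b, hb⟩ := (Finite.surjective_of_injective hf) ⟨d, (hB d).2 ⟨hd1, hd2⟩⟩
  have hb' : t * (b : G)⁻¹ * t⁻¹ * b = d := congrArg Subtype.val hb
  refine ⟨b * u⁻¹, ?_, ?_⟩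
  · refine (good_of_comm ((hB _).1 b.2).1 ((hB _).1 b.2).2).mul (Good.inv ⟨?_, cj_eq_of_mem hu2⟩)
    exact cj_eq_of_mem_centralizer (by
      rw [mem_centralizer_iff]
      intro k hk
      exact com T hk hu2)
  · have e1 : t * g = u * (t * d) * u⁻¹ := by rw [← hx]; group
    rw [e1, ← hb']
    calc u * (t * (t * (b : G)⁻¹ * t⁻¹ * b)) * u⁻¹ = u * ((t * t) * (b : G)⁻¹ * t⁻¹ * b) * u⁻¹ := by group
      _ = u * ((b : G)⁻¹ * t * b) * u⁻¹ := by rw [h.tt, hti]; group
      _ = (b * u⁻¹)⁻¹ * t * (b * u⁻¹) := by group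

theorem all_case [Finite G] (h : Spl t ι) (T : Two t ι K₁) {g : G} (hg : Good t K₁ g)
    (h2 : (t * g) * (t * g) = 1) : ∃ y, Good t K₁ y ∧ t * g = y⁻¹ * t * y := by
  obtain ⟨σ, hσ⟩ := exists_psi h T hg.one
  by_cases hs : Perm.sign σ = 1
  · exact even_case h T hg hσ hs h2
  · have hs' : Perm.sign σ = -1 := (Int.units_eq_one_or _).resolve_left hs
    obtain ⟨w, hw, hw1, hw2⟩ := T.sw
    have hwg : Good t K₁ w := ⟨hw1, hw2⟩
    obtain ⟨τ, hτ⟩ := exists_psi h T hw1
    have hp : Psi t ι K₁ (ι (swap 0 1) * (w * g * w⁻¹)) (swap 0 1 * (τ * σ * τ⁻¹)) := by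
      refine (psi_iota h _).mul ?_ ((hwg.mul hg).mul hwg.inv).one
      exact (hτ.mul hσ hg.one).mul (hτ.inv h T hw1) hwg.inv.one
    have hgood : Good t K₁ (ι (swap 0 1) * (w * g * w⁻¹)) :=
      (good_iota h T _).mul ((hwg.mul hg).mul hwg.inv)
    have hsg : Perm.sign (swap 0 1 * (τ * σ * τ⁻¹) : S7) = 1 := by
      rw [map_mul, map_mul, map_mul, map_inv, hs', Perm.sign_swap (by decide)]
      rcases Int.units_eq_one_or (Perm.sign τ) with e | e <;> rw [e] <;> decide
    have e1 : t * (ι (swap 0 1) * (w * g * w⁻¹)) = w * (t * g) * w⁻¹ := by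
      calc t * (ι (swap 0 1) * (w * g * w⁻¹)) = (t * ι (swap 0 1)) * (w * g * w⁻¹) := by group
        _ = (w * t * w⁻¹) * (w * g * w⁻¹) := by rw [hw]
        _ = w * (t * g) * w⁻¹ := by group
    obtain ⟨y, hy, hye⟩ := even_case h T hgood hp hsg (by
      rw [e1]
      calc w * (t * g) * w⁻¹ * (w * (t * g) * w⁻¹) = w * ((t * g) * (t * g)) * w⁻¹ := by group
        _ = 1 := by rw [h2]; group)
    refine ⟨y * w, hy.mul hwg, ?_⟩
    rw [e1] at hye
    calc t * g = w⁻¹ * (w * (t * g) * w⁻¹) * w := by group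
      _ = w⁻¹ * (y⁻¹ * t * y) * w := by rw [hye]
      _ = (y * w)⁻¹ * t * (y * w) := by group

/-! ### The stabiliser and its sign -/

/-- `g` interchanges the factors. -/
structure Bad (t : G) (K₁ : Subgroup G) (g : G) : Prop where
  one : cj g K₁ = cj t K₁
  two : cj g (cj t K₁) = K₁

theorem Bad.mul_bad {g g' : G} (h1 : Bad t K₁ g) (h2 : Bad t K₁ g') : Good t K₁ (g * g') where
  one := by rw [← cj_cj, h2.one, h1.two]
  two := by rw [← cj_cj, h2.two, h1.one]

theorem Bad.mul_good {g g' : G} (h1 : Bad t K₁ g) (h2 : Good t K₁ g') : Bad t K₁ (g * g') where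
  one := by rw [← cj_cj, h2.one, h1.one]
  two := by rw [← cj_cj, h2.two, h1.two]

theorem Good.mul_bad {g g' : G} (h1 : Good t K₁ g) (h2 : Bad t K₁ g') : Bad t K₁ (g * g') where
  one := by rw [← cj_cj, h2.one, h1.two]
  two := by rw [← cj_cj, h2.two, h1.one]

theorem Bad.inv {g : G} (h1 : Bad t K₁ g) : Bad t K₁ g⁻¹ where
  one := by
    conv_lhs => rw [← h1.two]
    rw [cj_inv_cj]
  two := by rw [← h1.one, cj_inv_cj]

theorem bad_t (h : Spl t ι) : Bad t K₁ t where
  one := rfl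
  two := cj_tt h _

/-- the stabiliser -/
def stab (t : G) (K₁ : Subgroup G) : Subgroup G where
  carrier := {g | Good t K₁ g ∨ Bad t K₁ g}
  mul_mem' := by
    rintro a b (ha | ha) (hb | hb)
    · exact Or.inl (ha.mul hb)
    · exact Or.inr (ha.mul_bad hb)
    · exact Or.inr (ha.mul_good hb)
    · exact Or.inl (ha.mul_bad hb)
  one_mem' := Or.inl ⟨cj_one _, cj_one _⟩
  inv_mem' := by
    rintro a (ha | ha)
    · exact Or.inl ha.inv
    · exact Or.inr ha.inv

open Classical in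
/-- the sign -/
noncomputable def sgn (h : Spl t ι) (T : Two t ι K₁) : stab t K₁ →* ℤˣ :=
  MonoidHom.mk' (fun g => if Good t K₁ (g : G) then 1 else -1) (by
    have hex : ∀ g : G, Bad t K₁ g → ¬ Good t K₁ g := fun g hb hg => ne h T (hb.one.symm.trans hg.one)
    rintro ⟨a, ha⟩ ⟨b, hb⟩
    show (if Good t K₁ (a * b) then (1 : ℤˣ) else -1) =
      (if Good t K₁ a then 1 else -1) * (if Good t K₁ b then 1 else -1)
    rcases ha with ha | ha <;> rcases hb with hb | hb
    · rw [if_pos ha, if_pos hb, if_pos (ha.mul hb), mul_one]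
    · rw [if_pos ha, if_neg (hex _ hb), if_neg (hex _ (ha.mul_bad hb)), one_mul]
    · rw [if_pos hb, if_neg (hex _ ha), if_neg (hex _ (ha.mul_good hb)), mul_one]
    · rw [if_neg (hex _ hb), if_neg (hex _ ha), if_pos (ha.mul_bad hb)]
      rfl)

end End

open End Subgroup Equiv Cfsg.Agent.OddHalf.D3 in
/-- **Piece F.** -/
theorem false_of_two {G : Type*} [Group G] {t : G} {ι : S7 →* G} {K₁ : Subgroup G} [Finite G]
    (hG : ∀ H : Subgroup G, H.index ≠ 2) (h : Spl t ι) (T : Two t ι K₁) : False := by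
  classical
  have hex : ∀ g : G, Bad t K₁ g → ¬ Good t K₁ g := fun g hb hg => End.ne h T (hb.one.symm.trans hg.one)
  have htH : t ∈ stab t K₁ := Or.inr (bad_t h)
  have h1 : MonoidHom.transfer (sgn h T) t = sgn h T ⟨t, htH⟩ := by
    apply StdL3.OneParity.transfer_eq_of_one_class (stab t K₁) (sgn h T) t h.tt htH
    · intro g hg hne
      have hbad : Bad t K₁ (g⁻¹ * t * g) := by
        rcases hg with hg' | hg'
        · exact absurd (show (if Good t K₁ (g⁻¹ * t * g) then (1 : ℤˣ) else -1) = 1 from if_pos hg') hne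
        · exact hg'
      have hgood : Good t K₁ (t * (g⁻¹ * t * g)) := (bad_t h).mul_bad hbad
      have e1 : t * (t * (g⁻¹ * t * g)) = g⁻¹ * t * g := by
        rw [← mul_assoc, h.tt, one_mul]
      obtain ⟨y, hy, hye⟩ := all_case h T hgood (by
        rw [e1]
        calc g⁻¹ * t * g * (g⁻¹ * t * g) = g⁻¹ * (t * t) * g := by group
          _ = 1 := by rw [h.tt]; group)
      rw [e1] at hye
      exact ⟨y, Or.inl hy, hye⟩
    · have h2 : Subgroup.centralizer ({t} : Set G) ≤ stab t K₁ := by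
        intro g hg
        obtain ⟨a, ha | ha⟩ := h.cases (mem_cs.1 hg)
        · rw [ha]; exact Or.inl (good_iota h T a)
        · rw [ha]; exact Or.inr ((bad_t h).mul_good (good_iota h T a))
      rw [Subgroup.subgroupOf_eq_top.2 h2, Subgroup.index_top]
      exact odd_one
  rw [hom_eq_one hG] at h1
  have h3 : sgn h T ⟨t, htH⟩ = -1 := if_neg (hex t (bad_t h))
  rw [h3] at h1
  exact absurd h1 (by decide)

end Cfsg.Agent.OddHalf.D5.Seven

end

-- merged: Cfsg.Agent.OddHalf.D5.Seven.ParityEnd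
section

/-!
# ODD D5, `n = 7`: the parity end (helper905; text: bb ODD 9179 (5), helper307)

`s = ι (4 5)`, `D` a component of `C(s)` with `Dᵗ ≠ D`. The transfer of the sign of the permutation representation of
`C(s)` on its components, evaluated at `t`, is the product over `s' ∈ s^G ∩ C(t)` of the sign of `t` on the components of
`C(s')`. It is `-1` if `s' = ι (a transposition)` (21 elements) and `1` otherwise.
-/

set_option autoImplicit false

namespace Cfsg.Agent.OddHalf.D5.Seven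

open Subgroup Equiv Cfsg Cfsg.Agent.OddHalf.D3 Cfsg.Agent.SignalizersComponents
open scoped commutatorElement

namespace Parity

open Five Diag

variable {G : Type*} [Group G] {t : G} {ι : S7 →* G}

/-! ### The diagonal -/

theorem diag_hom {M : Subgroup G} (hc : ∀ x ∈ M, ∀ y ∈ M, x * (t * y * t⁻¹) = (t * y * t⁻¹) * x) :
    ∃ δ : M →* G, ∀ x : M, δ x = (x : G) * (t * x * t⁻¹) := by
  refine ⟨MonoidHom.mk' (fun x : M => (x : G) * (t * x * t⁻¹)) ?_, fun _ => rfl⟩
  intro x y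
  have h1 := hc y y.2 x x.2
  show ((x * y : M) : G) * (t * ((x * y : M) : G) * t⁻¹) = (x : G) * (t * x * t⁻¹) * ((y : G) * (t * y * t⁻¹))
  rw [coe_mul]
  calc (x : G) * y * (t * (x * y) * t⁻¹) = x * (y * (t * x * t⁻¹)) * (t * y * t⁻¹) := by group
    _ = x * (t * x * t⁻¹ * y) * (t * y * t⁻¹) := by rw [h1]
    _ = _ := by group

/-- a perfect group has no nontrivial homomorphism with commutative image -/
theorem eq_one_of_comm' {M : Subgroup G} (hM : ⁅M, M⁆ = M) (δ : M →* G) (hc : ∀ x y : M, δ x * δ y = δ y * δ x)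
    (x : M) : δ x = 1 := by
  have h1 : (⊤ : Subgroup M) ≤ δ.ker := by
    have h2 : ⁅(⊤ : Subgroup M), ⊤⁆ = ⊤ := Schreier.Tools.top_perfect hM
    rw [← h2, commutator_le]
    intro a _ b _
    rw [MonoidHom.mem_ker, map_commutatorElement, commutatorElement_eq_one_iff_mul_comm]
    exact hc a b
  exact MonoidHom.mem_ker.1 (h1 (mem_top x))

/-- If `δ` is trivial then `M` is normalised by `t`. -/
theorem cj_eq_of_trivial {M : Subgroup G} (ht : t * t = 1)
    (h : ∀ x ∈ M, x * (t * x * t⁻¹) = 1) : cj t M = M := by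
  have key : ∀ x ∈ M, t * x * t⁻¹ ∈ M := by
    intro x hx
    rw [(eq_inv_of_mul_eq_one_right (h x hx))]
    exact M.inv_mem hx
  have hti : t⁻¹ = t := inv_eq_of_mul_eq_one_left ht
  ext x
  rw [mem_cj]
  constructor
  · intro hx
    have := key _ hx
    have e : t * (t⁻¹ * x * t) * t⁻¹ = x := by group
    rwa [e] at this
  · intro hx
    have := key _ hx
    rwa [hti] at this ⊢

/-! ### The projection of `C(t)` to `S₇` -/

/-- the projection -/
theorem exists_pi (h : Spl t ι) :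
    ∃ π : centralizer ({t} : Set G) →* S7, ∀ x : centralizer ({t} : Set G), (x : G) = ι (π x) ∨ (x : G) = t * ι (π x) := by
  choose π hπ using fun x : centralizer ({t} : Set G) => h.cases (mem_cs.1 x.2)
  refine ⟨MonoidHom.mk' π ?_, hπ⟩
  have huniq : ∀ (x : G) (a b : S7), (x = ι a ∨ x = t * ι a) → (x = ι b ∨ x = t * ι b) → a = b := by
    rintro x a b (ha | ha) (hb | hb)
    · exact h.inj (ha.symm.trans hb)
    · exact (h.tne a b (ha.symm.trans hb)).elim
    · exact (h.tne b a (hb.symm.trans ha)).elim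
    · exact h.inj (mul_left_cancel (ha.symm.trans hb))
  intro x y
  apply huniq ((x * y : centralizer ({t} : Set G)) : G) _ _ (hπ (x * y))
  rw [coe_mul, map_mul]
  rcases hπ x with hx | hx <;> rcases hπ y with hy | hy
  · left; rw [← hx, ← hy]
  · right
    calc (x : G) * y = ι (π x) * (t * ι (π y)) := by rw [← hx, ← hy]
      _ = ι (π x) * t * ι (π y) := by group
      _ = t * (ι (π x) * ι (π y)) := by rw [h.comm' (π x)]; group
  · right
    calc (x : G) * y = t * ι (π x) * ι (π y) := by rw [← hx, ← hy]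
      _ = t * (ι (π x) * ι (π y)) := by group
  · left
    calc (x : G) * y = (t * ι (π x)) * (t * ι (π y)) := by rw [← hx, ← hy]
      _ = t * (ι (π x) * t) * ι (π y) := by group
      _ = (t * t) * (ι (π x) * ι (π y)) := by rw [h.comm' (π x)]; group
      _ = ι (π x) * ι (π y) := by rw [h.tt, one_mul]

/-- the involutions with `k ≥ 2` transpositions have a solvable centraliser -/
theorem solvable_of_not_swap {a : S7} (ha : a * a = 1) (ha1 : a ≠ 1) (hs : ¬ a.IsSwap) :
    Group.IsSolvable ↥(centralizer ({a} : Set S7)) := by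
  have ho : orderOf a = 2 := orderOf_eq_prime (by rw [pow_two, ha]) ha1
  obtain ⟨n, hn⟩ := Perm.cycleType_prime_order (σ := a) (by rw [ho]; exact Nat.prime_two)
  rw [ho] at hn
  have h7 := Perm.sum_cycleType_le a
  rw [hn] at h7
  simp only [Multiset.sum_replicate, smul_eq_mul, Fintype.card_fin] at h7
  have hn0 : n ≠ 0 := by
    rintro rfl
    apply hs
    rw [← Perm.card_support_eq_two, ← Perm.sum_cycleType, hn]
    rfl
  have h12 : n = 1 ∨ n = 2 := by omega
  have hcard : Nat.card ↥(centralizer ({a} : Set S7)) = 48 := by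
    rw [Perm.nat_card_centralizer, hn]
    rcases h12 with rfl | rfl <;> decide
  exact Cfsg.Agent.S0144.result 2 3 4 1 Nat.prime_two Nat.prime_three (by rw [hcard]; norm_num)

/-- the involutions conjugate to `s` in `C(t)` -/
theorem eq_iota (A : All t ι) {g : G} (hg : (g * ι (swap 4 5) * g⁻¹) * t = t * (g * ι (swap 4 5) * g⁻¹)) :
    ∃ a : S7, a * a = 1 ∧ a ≠ 1 ∧ g * ι (swap 4 5) * g⁻¹ = ι a := by
  have hsq : (g * ι (swap 4 5) * g⁻¹) * (g * ι (swap 4 5) * g⁻¹) = 1 := by
    calc (g * ι (swap 4 5) * g⁻¹) * (g * ι (swap 4 5) * g⁻¹) = g * (ι (swap 4 5) * ι (swap 4 5)) * g⁻¹ := by group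
      _ = 1 := by rw [← map_mul, swap_mul_self, map_one]; group
  have hss : (swap 4 5 : S7) ≠ 1 := by decide
  have hno := A.no (swap 4 5) (swap_mul_self _ _) hss
  have hcj : IsConj (ι (swap 4 5)) (g * ι (swap 4 5) * g⁻¹) := isConj_iff.2 ⟨g, rfl⟩
  obtain ⟨a, ha | ha⟩ := A.toSpl.cases hg
  · refine ⟨a, ?_, ?_, ha⟩
    · apply A.inj
      rw [map_mul, ← ha, hsq, map_one]
    · rintro rfl
      rw [map_one, mul_inv_eq_one] at ha
      have h1 : ι (swap 4 5) = 1 := mul_eq_left.1 ha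
      exact hss (A.toSpl.iota_eq_one h1)
  · exfalso
    have h2 : a * a = 1 := by
      apply A.inj
      rw [map_mul, map_one]
      rw [ha] at hsq
      calc ι a * ι a = (t * t) * (ι a * ι a) := by rw [A.tt, one_mul]
        _ = t * (t * ι a) * ι a := by group
        _ = t * (ι a * t) * ι a := by rw [A.comm a]
        _ = 1 := by rw [← hsq]; group
    have h3 : IsConj t (t * ι a) := by
      by_cases h1 : a = 1
      · rw [h1, map_one, mul_one]
      · exact A.yes a h2 h1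
    rw [← ha] at h3
    exact hno (h3.trans hcj.symm)

/-- **Only the transpositions matter.** -/
theorem isSwap_of_moved (A : All t ι) {g : G} (hg : (g * ι (swap 4 5) * g⁻¹) * t = t * (g * ι (swap 4 5) * g⁻¹))
    {M : Subgroup G} (hM : Comp (g * ι (swap 4 5) * g⁻¹) M) (hne : cj t M ≠ M) :
    ∃ a : S7, a.IsSwap ∧ g * ι (swap 4 5) * g⁻¹ = ι a := by
  obtain ⟨a, ha, ha1, hga⟩ := eq_iota A hg
  refine ⟨a, ?_, hga⟩
  by_contra hs
  have hsol := solvable_of_not_swap ha ha1 hs
  have hMt := hM.conj_of_comm hg.symm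
  have hcomm := hM.comm hMt (fun e => hne e.symm)
  have hc : ∀ x ∈ M, ∀ y ∈ M, x * (t * y * t⁻¹) = (t * y * t⁻¹) * x := fun x hx y hy =>
    comm_elt hcomm hx (conj_mem_cj hy)
  obtain ⟨δ, hδ⟩ := diag_hom hc
  have hδt : ∀ x : M, δ x ∈ centralizer ({t} : Set G) := by
    intro x
    rw [mem_cs, hδ]
    have e1 := hc x x.2 x x.2
    calc (x : G) * (t * x * t⁻¹) * t = (t * x * t⁻¹ * x) * t := by rw [e1]
      _ = t * (x * (t⁻¹ * x * t)) := by group
      _ = t * (x * (t * x * t⁻¹)) := by rw [A.toSpl.t_inv]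
  obtain ⟨π, hπ⟩ := exists_pi A.toSpl
  have hδs : ∀ x : M, δ x * ι a = ι a * δ x := by
    intro x
    rw [← hga, hδ]
    have e1 := mem_cs.1 (hM.le x.2)
    have e2 := mem_cs.1 (hMt.le (conj_mem_cj (g := t) x.2))
    calc (x : G) * (t * x * t⁻¹) * (g * ι (swap 4 5) * g⁻¹) = x * ((t * x * t⁻¹) * (g * ι (swap 4 5) * g⁻¹)) := by group
      _ = (x * (g * ι (swap 4 5) * g⁻¹)) * (t * x * t⁻¹) := by rw [e2]; group
      _ = (g * ι (swap 4 5) * g⁻¹) * (x * (t * x * t⁻¹)) := by rw [e1]; group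
  let ρ : M →* centralizer ({a} : Set S7) := (π.comp (δ.codRestrict _ hδt)).codRestrict _ (by
    intro x
    rw [mem_centralizer_singleton_iff]
    apply A.inj
    rw [map_mul, map_mul]
    have h1 := hδs x
    have h2 := hπ ⟨δ x, hδt x⟩
    show ι (π ⟨δ x, hδt x⟩) * ι a = ι a * ι (π ⟨δ x, hδt x⟩)
    rcases h2 with h2 | h2
    · rw [← h2]; exact h1
    · have h3 : δ x = t * ι (π ⟨δ x, hδt x⟩) := h2
      rw [h3] at h1
      apply mul_left_cancel (a := t)
      calc t * (ι (π ⟨δ x, hδt x⟩) * ι a) = t * ι (π ⟨δ x, hδt x⟩) * ι a := by group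
        _ = ι a * (t * ι (π ⟨δ x, hδt x⟩)) := h1
        _ = ι a * t * ι (π ⟨δ x, hδt x⟩) := by group
        _ = t * (ι a * ι (π ⟨δ x, hδt x⟩)) := by rw [A.comm' a]; group)
  have hρ : ∀ x, π ⟨δ x, hδt x⟩ = 1 := fun x =>
    congrArg Subtype.val (Schreier.Tools.hom_eq_one hM.perfect ρ x)
  have h1 : ∀ x : M, δ x = 1 := by
    apply eq_one_of_comm' hM.perfect
    have key : ∀ x : M, δ x = 1 ∨ δ x = t := by
      intro x
      have h2 := hπ ⟨δ x, hδt x⟩
      rw [hρ x, map_one, mul_one] at h2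
      exact h2
    intro x y
    rcases key x with hx | hx <;> rcases key y with hy | hy <;> rw [hx, hy] <;> group
  apply hne
  apply cj_eq_of_trivial A.tt
  intro x hx
  rw [← hδ ⟨x, hx⟩]
  exact h1 ⟨x, hx⟩

/-- a permutation commuting with `A₅` is `1` or `(4 5)` -/
theorem eq_of_comm_em {c : S7} (h : ∀ a, Perm.sign a = 1 → c * em a = em a * c) : c = 1 ∨ c = swap 4 5 := by
  -- `c` preserves the fixed points of the elements of `A₅`
  have h1 : ∀ (a : Perm (Fin 5)) (x : Fin 7), Perm.sign a = 1 → em a x = x → em a (c x) = c x := by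
    intro a x ha hx
    have := congrArg (fun f : S7 => f x) (h a ha)
    simp only [Perm.mul_apply] at this
    rw [← this, hx]
  have h2 : ∀ x : Fin 7, x ≠ 4 → x ≠ 5 → c x = x := by
    intro x h4 h5
    by_contra hne
    -- an element of `A₅` fixing `x` and moving `c x`, or `c x ∈ {4, 5}`
    have key : ∀ x y : Fin 7, x ≠ 4 → x ≠ 5 → y ≠ x → y ≠ 4 → y ≠ 5 →
        ∃ a : Perm (Fin 5), Perm.sign a = 1 ∧ em a x = x ∧ em a y ≠ y := by decide +kernel
    by_cases hy : c x = 4 ∨ c x = 5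
    · -- an element moving `x`
      have key2 : ∀ x : Fin 7, x ≠ 4 → x ≠ 5 → ∃ a : Perm (Fin 5), Perm.sign a = 1 ∧ em a x ≠ x := by
        decide +kernel
      obtain ⟨a, ha, hax⟩ := key2 x h4 h5
      have h3 := congrArg (fun f : S7 => f x) (h a ha)
      simp only [Perm.mul_apply] at h3
      rw [em_fix a hy] at h3
      exact hax (c.injective h3)
    · push Not at hy
      obtain ⟨a, ha, hax, hay⟩ := key x (c x) h4 h5 hne hy.1 hy.2
      exact hay (h1 a x ha hax)
  have h45 : c 4 = 4 ∨ c 4 = 5 := by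
    by_contra hcon
    push Not at hcon
    exact hcon.1 (c.injective (h2 (c 4) hcon.1 hcon.2))
  have h54 : c 5 = 4 ∨ c 5 = 5 := by
    by_contra hcon
    push Not at hcon
    exact hcon.2 (c.injective (h2 (c 5) hcon.1 hcon.2))
  rcases h45 with h4 | h4
  · left
    have h5 : c 5 = 5 := by
      rcases h54 with h5 | h5
      · exact absurd (c.injective (h5.trans h4.symm)) (by decide)
      · exact h5
    ext x
    by_cases hx4 : x = 4
    · rw [hx4, h4]; rfl
    by_cases hx5 : x = 5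
    · rw [hx5, h5]; rfl
    rw [h2 x hx4 hx5]; rfl
  · right
    have h5 : c 5 = 4 := by
      rcases h54 with h5 | h5
      · exact h5
      · exact absurd (c.injective (h5.trans h4.symm)) (by decide)
    ext x
    by_cases hx4 : x = 4
    · rw [hx4, h4, swap_apply_left]
    by_cases hx5 : x = 5
    · rw [hx5, h5, swap_apply_right]
    rw [h2 x hx4 hx5, swap_apply_of_ne_of_ne hx4 hx5]

/-- **The moved pair of components of `C(s)` is unique.** -/
theorem unique_pair (h : Spl t ι) {D : Subgroup G} (hD : Comp (ι (swap 4 5)) D)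
    (hJ : ∀ k ∈ JJ ι, ∃ d ∈ D, k = d * (t * d * t⁻¹)) {M : Subgroup G} (hM : Comp (ι (swap 4 5)) M)
    (hne : cj t M ≠ M) : M = D ∨ M = cj t D := by
  by_contra hcon
  push Not at hcon
  have hts : t * ι (swap 4 5) = ι (swap 4 5) * t := h.comm _
  have hMt := hM.conj_of_comm hts
  have hDt := hD.conj_of_comm hts
  have hcomm := hM.comm hMt (fun e => hne e.symm)
  have hc : ∀ x ∈ M, ∀ y ∈ M, x * (t * y * t⁻¹) = (t * y * t⁻¹) * x := fun x hx y hy =>
    comm_elt hcomm hx (conj_mem_cj hy)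
  obtain ⟨δ, hδ⟩ := diag_hom hc
  have hti := h.t_inv
  have hδt : ∀ x : M, δ x * t = t * δ x := by
    intro x
    rw [hδ]
    have e1 := hc x x.2 x x.2
    calc (x : G) * (t * x * t⁻¹) * t = (t * x * t⁻¹ * x) * t := by rw [e1]
      _ = t * (x * (t⁻¹ * x * t)) := by group
      _ = t * (x * (t * x * t⁻¹)) := by rw [hti]
  -- `M` commutes with `J`
  have hMD := hM.comm hD hcon.1
  have hMDt := hM.comm hDt hcon.2
  have hMJ : ∀ x ∈ M, ∀ k ∈ JJ ι, x * k = k * x := by
    intro x hx k hk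
    obtain ⟨d, hd, rfl⟩ := hJ k hk
    have e1 := comm_elt hMD hx hd
    have e2 := comm_elt hMDt hx (conj_mem_cj (g := t) hd)
    calc x * (d * (t * d * t⁻¹)) = (x * d) * (t * d * t⁻¹) := by group
      _ = d * (x * (t * d * t⁻¹)) := by rw [e1]; group
      _ = d * (t * d * t⁻¹) * x := by rw [e2]; group
  have hJt : ∀ k ∈ JJ ι, t * k * t⁻¹ = k := by
    intro k hk
    obtain ⟨a, -, rfl⟩ := mem_JJ.1 hk
    rw [h.comm (em a)]; group
  have hδJ : ∀ (x : M), ∀ k ∈ JJ ι, δ x * k = k * δ x := by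
    intro x k hk
    rw [hδ]
    have e1 := hMJ x x.2 k hk
    have e2 : (t * x * t⁻¹) * k = k * (t * x * t⁻¹) := by
      calc (t * x * t⁻¹) * k = (t * x * t⁻¹) * (t * k * t⁻¹) := by rw [hJt k hk]
        _ = t * (x * k) * t⁻¹ := by group
        _ = (t * k * t⁻¹) * (t * x * t⁻¹) := by rw [e1]; group
        _ = k * (t * x * t⁻¹) := by rw [hJt k hk]
    calc (x : G) * (t * x * t⁻¹) * k = x * ((t * x * t⁻¹) * k) := by group
      _ = (x * k) * (t * x * t⁻¹) := by rw [e2]; group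
      _ = k * (x * (t * x * t⁻¹)) := by rw [e1]; group
  -- the values of `δ` lie in `⟨t, s⟩`
  have hval : ∀ x : M, ∃ c : S7, (c = 1 ∨ c = swap 4 5) ∧ (δ x = ι c ∨ δ x = t * ι c) := by
    intro x
    obtain ⟨c, hc'⟩ := h.cases (hδt x)
    refine ⟨c, eq_of_comm_em ?_, hc'⟩
    intro a ha
    have h1 := hδJ x _ (mem_JJ.2 ⟨a, ha, rfl⟩)
    apply h.inj
    rw [map_mul, map_mul]
    rcases hc' with hc' | hc'
    · rw [← hc']; exact h1
    · rw [hc'] at h1
      apply mul_left_cancel (a := t)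
      calc t * (ι c * ι (em a)) = t * ι c * ι (em a) := by group
        _ = ι (em a) * (t * ι c) := h1
        _ = ι (em a) * t * ι c := by group
        _ = t * (ι (em a) * ι c) := by rw [h.comm' (em a)]; group
  have h1 : ∀ x : M, δ x = 1 := by
    apply eq_one_of_comm' hM.perfect
    have hst : Commute (ι (swap 4 5)) t := hts.symm
    have key : ∀ x : M, ∀ g : G, Commute g t → Commute g (ι (swap 4 5)) → Commute g (δ x) := by
      intro x g g1 g2
      obtain ⟨c, hc1, hc2⟩ := hval x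
      have g3 : Commute g (ι c) := by
        rcases hc1 with rfl | rfl
        · rw [map_one]; exact Commute.one_right g
        · exact g2
      rcases hc2 with hc2 | hc2
      · rw [hc2]; exact g3
      · rw [hc2]; exact g1.mul_right g3
    intro x y
    exact (key y (δ x) (key x t (Commute.refl t) hst.symm).symm (key x _ hst (Commute.refl _)).symm)
  apply hne
  apply cj_eq_of_trivial h.tt
  intro x hx
  rw [← hδ ⟨x, hx⟩]
  exact h1 ⟨x, hx⟩

/-! ### The permutation representation on the components -/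

/-- the components of `C(s)` -/
abbrev Cs (s : G) := {M : Subgroup G // Comp s M}

/-- `C(s)` permutes its components. -/
def rep (s : G) : centralizer ({s} : Set G) →* Perm (Cs s) where
  toFun g :=
    { toFun := fun M => ⟨cj (g : G) M, M.2.conj_of_comm (mem_cs.1 g.2)⟩
      invFun := fun M => ⟨cj (g : G)⁻¹ M, M.2.conj_of_comm (mem_cs.1 (inv_mem g.2))⟩
      left_inv := fun M => Subtype.ext (cj_inv_cj _ _)
      right_inv := fun M => Subtype.ext (cj_cj_inv _ _) }
  map_one' := by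
    ext1 M
    exact Subtype.ext (cj_one _)
  map_mul' := by
    intro g g'
    ext1 M
    exact Subtype.ext (cj_cj _ _ _).symm

theorem rep_apply {s : G} (g : centralizer ({s} : Set G)) (M : Cs s) : ((rep s g M : Cs s) : Subgroup G) = cj (g : G) M :=
  rfl

theorem rep_t (h : Spl t ι) {D : Subgroup G} (hD : Comp (ι (swap 4 5)) D)
    (hJ : ∀ k ∈ JJ ι, ∃ d ∈ D, k = d * (t * d * t⁻¹)) (ht : t ∈ centralizer ({ι (swap 4 5)} : Set G))
    [DecidableEq (Cs (ι (swap 4 5)))] :
    rep (ι (swap 4 5)) ⟨t, ht⟩ = swap ⟨D, hD⟩ ⟨cj t D, hD.conj_of_comm (h.comm _)⟩ := by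
  ext1 M
  apply Subtype.ext
  rw [rep_apply]
  show cj t M = _
  by_cases h1 : M = ⟨D, hD⟩
  · rw [h1, swap_apply_left]
  by_cases h2 : M = ⟨cj t D, hD.conj_of_comm (h.comm _)⟩
  · rw [h2, swap_apply_right]
    exact End.cj_tt h D
  rw [swap_apply_of_ne_of_ne h1 h2]
  by_contra hne
  rcases unique_pair h hD hJ M.2 hne with h3 | h3
  · exact h1 (Subtype.ext h3)
  · exact h2 (Subtype.ext h3)

theorem cycleType_s : (swap 4 5 : S7).cycleType = {2} := (Perm.isSwap_iff_cycleType.1 ⟨4, 5, by decide, rfl⟩)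

theorem card_swaps : (Finset.univ.filter (fun a : S7 => a.cycleType = {2})).card = 21 := by
  rw [Perm.card_of_cycleType]
  simp [Nat.factorial]

theorem exists_b {a : S7} (ha : a.cycleType = {2}) : ∃ b : S7, b * swap 4 5 * b⁻¹ = a := by
  have h1 : IsConj (swap 4 5 : S7) a := Perm.isConj_iff_cycleType_eq.2 (cycleType_s.trans ha.symm)
  exact isConj_iff.1 h1

end Parity

open Parity Diag in
/-- **(5)** The parity end. -/
theorem false_of_diag {G : Type*} [Group G] [Finite G] {t : G} {ι : S7 →* G}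
    (hG : ∀ H : Subgroup G, H.index ≠ 2) (A : All t ι) {D : Subgroup G} (hD : Comp (ι (swap 4 5)) D)
    (hne : cj t D ≠ D) (hJ : ∀ k ∈ JJ ι, ∃ d ∈ D, k = d * (t * d * t⁻¹)) : False := by
  classical
  have h := A.toSpl
  obtain ⟨s, hs⟩ : ∃ s, s = ι (swap 4 5) := ⟨_, rfl⟩
  have hfin : Fintype (Cs s) := Fintype.ofFinite _
  have hfq : Fintype (G ⧸ centralizer ({s} : Set G)) := Fintype.ofFinite _
  let lam : centralizer ({s} : Set G) →* ℤˣ := Perm.sign.comp (rep s)
  have htN : t ∈ centralizer ({s} : Set G) := by rw [hs, mem_cs]; exact h.comm _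
  have hti := h.t_inv
  have hlt : lam ⟨t, htN⟩ = -1 := by
    subst hs
    show Perm.sign (rep (ι (swap 4 5)) ⟨t, htN⟩) = -1
    rw [rep_t h hD hJ htN]
    exact Perm.sign_swap (fun e => hne (congrArg Subtype.val e).symm)
  obtain ⟨f, hf, hprod⟩ := StdL3.OneParity.transfer_eq_prod_fixed (centralizer ({s} : Set G)) lam t h.tt
  rw [End.hom_eq_one hG] at hprod
  choose! b hb using fun a : S7 => fun ha : a.cycleType = {2} => exists_b ha
  have hmem : ∀ q : G ⧸ centralizer ({s} : Set G), ∀ g : G, (g : G ⧸ centralizer ({s} : Set G)) = q → t • q = q →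
      g⁻¹ * t * g ∈ centralizer ({s} : Set G) := by
    rintro q g rfl hq
    rw [MulAction.Quotient.smul_mk, smul_eq_mul, QuotientGroup.eq] at hq
    have e : (t * g)⁻¹ * g = g⁻¹ * t * g := by rw [mul_inv_rev, hti]
    rwa [e] at hq
  have hcard : (Finset.filter (fun q => f q ≠ 1)
      (Finset.univ.filter (fun q : G ⧸ centralizer ({s} : Set G) => t • q = q))).card = 21 := by
    rw [← card_swaps]
    symm
    apply Finset.card_bij (fun a _ => ((ι (b a) : G) : G ⧸ centralizer ({s} : Set G)))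
    · intro a ha
      have hq : t • ((ι (b a) : G) : G ⧸ centralizer ({s} : Set G)) = (ι (b a) : G) := by
        rw [MulAction.Quotient.smul_mk, smul_eq_mul, QuotientGroup.eq]
        have e : (t * ι (b a))⁻¹ * ι (b a) = t := by
          rw [h.comm (b a), mul_inv_rev, hti]; group
        rw [e]; exact htN
      rw [Finset.mem_filter, Finset.mem_filter]
      refine ⟨⟨Finset.mem_univ _, hq⟩, ?_⟩
      rw [hf _ _ rfl (hmem _ _ rfl hq)]
      have e : (⟨(ι (b a))⁻¹ * t * ι (b a), hmem _ _ rfl hq⟩ : centralizer ({s} : Set G)) = ⟨t, htN⟩ := by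
        apply Subtype.ext
        show (ι (b a))⁻¹ * t * ι (b a) = t
        rw [mul_assoc, h.comm (b a)]; group
      rw [e, hlt]
      decide
    · intro a ha a' ha' e
      have ha1 : a.cycleType = {2} := (Finset.mem_filter.1 ha).2
      have ha1' : a'.cycleType = {2} := (Finset.mem_filter.1 ha').2
      have e1 : ((ι (b a) : G) : G ⧸ centralizer ({s} : Set G)) = (ι (b a') : G) := e
      rw [QuotientGroup.eq, mem_cs, hs, ← map_inv, ← map_mul, ← map_mul, ← map_mul] at e1
      have e2 := h.inj e1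
      rw [← hb a ha1, ← hb a' ha1']
      calc b a * swap 4 5 * (b a)⁻¹ = b a * (swap 4 5 * ((b a)⁻¹ * b a')) * (b a')⁻¹ := by group
        _ = b a * (((b a)⁻¹ * b a') * swap 4 5) * (b a')⁻¹ := by rw [e2]
        _ = b a' * swap 4 5 * (b a')⁻¹ := by group
    · intro q hq
      rw [Finset.mem_filter, Finset.mem_filter] at hq
      obtain ⟨⟨-, hq1⟩, hq2⟩ := hq
      obtain ⟨g, rfl⟩ := QuotientGroup.mk_surjective q
      have hgN := hmem _ g rfl hq1
      rw [hf _ g rfl hgN] at hq2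
      have h1 : ∃ M : Cs s, cj (g⁻¹ * t * g) (M : Subgroup G) ≠ M := by
        by_contra hcon
        push Not at hcon
        apply hq2
        have : rep s ⟨g⁻¹ * t * g, hgN⟩ = 1 := by
          ext1 M
          exact Subtype.ext (hcon M)
        show Perm.sign (rep s ⟨g⁻¹ * t * g, hgN⟩) = 1
        rw [this, map_one]
      obtain ⟨M, hM⟩ := h1
      have hgs : (g * ι (swap 4 5) * g⁻¹) * t = t * (g * ι (swap 4 5) * g⁻¹) := by
        have e := mem_cs.1 hgN
        rw [hs] at e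
        calc (g * ι (swap 4 5) * g⁻¹) * t = g * (ι (swap 4 5) * (g⁻¹ * t * g)) * g⁻¹ := by group
          _ = g * ((g⁻¹ * t * g) * ι (swap 4 5)) * g⁻¹ := by rw [e]
          _ = t * (g * ι (swap 4 5) * g⁻¹) := by group
      have hM1 : Comp (g * ι (swap 4 5) * g⁻¹) (cj g M) := by
        rw [← hs]
        exact M.2.conj g
      have hM2 : cj t (cj g (M : Subgroup G)) ≠ cj g M := by
        intro e
        apply hM
        apply cj_injective g
        rw [← e, D3.cj_cj, D3.cj_cj]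
        congr 1
        group
      obtain ⟨a, ha, hga⟩ := isSwap_of_moved A hgs hM1 hM2
      have ha' : a.cycleType = {2} := Perm.isSwap_iff_cycleType.1 ha
      refine ⟨a, Finset.mem_filter.2 ⟨Finset.mem_univ _, ha'⟩, ?_⟩
      rw [QuotientGroup.eq, mem_cs, hs]
      have e1 : ι (b a) * ι (swap 4 5) * (ι (b a))⁻¹ = g * ι (swap 4 5) * g⁻¹ := by
        rw [hga, ← map_inv, ← map_mul, ← map_mul, hb a ha']
      calc (ι (b a))⁻¹ * g * ι (swap 4 5) = (ι (b a))⁻¹ * (g * ι (swap 4 5) * g⁻¹) * g := by group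
        _ = (ι (b a))⁻¹ * (ι (b a) * ι (swap 4 5) * (ι (b a))⁻¹) * g := by rw [e1]
        _ = ι (swap 4 5) * ((ι (b a))⁻¹ * g) := by group
  have h2 : ∏ q ∈ Finset.univ.filter (fun q : G ⧸ centralizer ({s} : Set G) => t • q = q), f q = (-1) ^ 21 := by
    rw [← Finset.prod_filter_ne_one, Finset.prod_congr rfl (g := fun _ => (-1 : ℤˣ)), Finset.prod_const, hcard]
    intro q hq
    exact (Int.units_eq_one_or (f q)).resolve_left (Finset.mem_filter.1 hq).2
  rw [h2] at hprod
  exact absurd hprod (by decide)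

end Cfsg.Agent.OddHalf.D5.Seven

end
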