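import Cfsg.Agent.OddHalf.D5.Seven.Five
import Cfsg.Agent.OddHalf.D5.TForm
import Cfsg.Agent.Lib.ModFour

-- merged: Cfsg.Agent.OddHalf.D5.Seven.Count
section

/-!
# ODD D5, `n = 7`: counting the conjugates of `t` in `C(t) = ⟨t⟩ × S₇` (helper905; text: bb ODD 9179, helper307)
-/

set_option autoImplicit false

namespace Cfsg.Agent.OddHalf.D5.Seven.Count

open Subgroup Equiv Cfsg Cfsg.Agent.OddHalf.D3

variable {G : Type*} [Group G] {t : G} {ι : S7 →* G}

/-! ### `C(t) = ℤˣ × S₇` -/

/-- the isomorphism `ℤˣ × S₇ → C(t)` -/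
theorem exists_equiv (h : Spl t ι) :
    ∃ E : ℤˣ × S7 ≃* centralizer ({t} : Set G), ∀ x, (E x : G) = (if x.1 = 1 then 1 else t) * ι x.2 := by
  classical
  have h1 : (-1 : ℤˣ) ≠ 1 := by decide
  have h2 : (-1 : ℤˣ) * -1 = 1 := by decide
  let f : ℤˣ × S7 →* G :=
    { toFun := fun x => (if x.1 = 1 then 1 else t) * ι x.2
      map_one' := by simp
      map_mul' := by
        rintro ⟨e, a⟩ ⟨e', b⟩
        rcases Int.units_eq_one_or e with he | he <;> rcases Int.units_eq_one_or e' with he' | he'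
        · simp [he, he']
        · simp only [he, he', Prod.mk_mul_mk, one_mul, if_neg h1, if_true, map_mul]
          rw [← mul_assoc, h.comm a, mul_assoc]
        · simp only [he, he', Prod.mk_mul_mk, one_mul, mul_one, if_neg h1, if_true, map_mul, mul_assoc]
        · simp only [he, he', Prod.mk_mul_mk, one_mul, if_neg h1, if_true, map_mul, h2]
          calc ι a * ι b = (t * t) * ι a * ι b := by rw [h.tt, one_mul]
            _ = t * (t * ι a) * ι b := by group
            _ = t * (ι a * t) * ι b := by rw [h.comm a]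
            _ = t * ι a * (t * ι b) := by group }
  have hf : ∀ x, f x = (if x.1 = 1 then 1 else t) * ι x.2 := fun _ => rfl
  have hmem : ∀ x, f x ∈ centralizer ({t} : Set G) := by
    rintro ⟨e, a⟩
    rw [mem_centralizer_singleton_iff, hf]
    rcases Int.units_eq_one_or e with he | he
    · simp only [he, if_true, one_mul]; exact h.comm' a
    · simp only [he, if_neg h1]
      rw [mul_assoc, ← h.comm a]
  let F : ℤˣ × S7 →* centralizer ({t} : Set G) := f.codRestrict _ hmem
  have hFc : ∀ x, (F x : G) = (if x.1 = 1 then 1 else t) * ι x.2 := fun _ => rfl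
  have hF : Function.Bijective F := by
    constructor
    · rintro ⟨e, a⟩ ⟨e', b⟩ hab
      have hab' : (F (e, a) : G) = F (e', b) := congrArg Subtype.val hab
      rw [hFc, hFc] at hab'
      rcases Int.units_eq_one_or e with he | he <;> rcases Int.units_eq_one_or e' with he' | he'
      · simp only [he, he', if_true, one_mul] at hab'
        rw [he, he', h.inj hab']
      · simp only [he, he', if_true, one_mul, if_neg h1] at hab'
        exact absurd hab' (h.tne _ _)
      · simp only [he, he', if_true, one_mul, if_neg h1] at hab'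
        exact absurd hab'.symm (h.tne _ _)
      · simp only [he, he', if_neg h1] at hab'
        rw [he, he', h.inj (mul_left_cancel hab')]
    · rintro ⟨x, hx⟩
      obtain ⟨a, ha | ha⟩ := h.cases (mem_centralizer_singleton_iff.1 hx)
      · refine ⟨(1, a), Subtype.ext ?_⟩
        rw [hFc, if_pos rfl, one_mul]
        exact ha.symm
      · refine ⟨(-1, a), Subtype.ext ?_⟩
        rw [hFc, if_neg h1]
        exact ha.symm
  exact ⟨MulEquiv.ofBijective F hF, hFc⟩

theorem card_cent (h : Spl t ι) : Nat.card (centralizer ({t} : Set G)) = 10080 := by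
  obtain ⟨E, -⟩ := exists_equiv h
  rw [← Nat.card_congr E.toEquiv, Nat.card_prod, Nat.card_perm, Nat.card_eq_fintype_card, Nat.card_fin]
  simp [Nat.factorial]

/-! ### Types -/

/-- `(4 5)` -/
def e1 : S7 := swap 4 5
/-- `(0 1)(2 3)` -/
def e2 : S7 := swap 0 1 * swap 2 3
/-- `(0 1)(2 3)(4 5)` -/
def e3 : S7 := swap 0 1 * swap 2 3 * swap 4 5

theorem ct1 : e1.cycleType = {2} := Perm.isSwap_iff_cycleType.1 ⟨4, 5, by decide, rfl⟩

theorem ct2 : e2.cycleType = {2, 2} := by
  have hd : Perm.Disjoint (swap 0 1 : S7) (swap 2 3) := by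
    rw [Perm.disjoint_iff_disjoint_support, Perm.support_swap (by decide), Perm.support_swap (by decide)]
    decide
  rw [e2, hd.cycleType_mul, Perm.isSwap_iff_cycleType.1 ⟨0, 1, by decide, rfl⟩,
    Perm.isSwap_iff_cycleType.1 ⟨2, 3, by decide, rfl⟩]
  rfl

theorem ct3 : e3.cycleType = {2, 2, 2} := by
  have hd : Perm.Disjoint (swap 0 1 * swap 2 3 : S7) (swap 4 5) := by
    intro x
    revert x
    decide
  have h2 := ct2
  rw [e2] at h2
  rw [e3, hd.cycleType_mul, h2, Perm.isSwap_iff_cycleType.1 ⟨4, 5, by decide, rfl⟩]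
  rfl

theorem card1 : (Finset.univ.filter (fun a : S7 => a.cycleType = {2})).card = 21 := by
  rw [Perm.card_of_cycleType]; simp [Nat.factorial]

theorem card2 : (Finset.univ.filter (fun a : S7 => a.cycleType = {2, 2})).card = 105 := by
  rw [Perm.card_of_cycleType]; simp [Nat.factorial]

theorem card3 : (Finset.univ.filter (fun a : S7 => a.cycleType = {2, 2, 2})).card = 105 := by
  rw [Perm.card_of_cycleType]; simp [Nat.factorial]

theorem type_of_sq {a : S7} (ha : a * a = 1) :
    a = 1 ∨ a.cycleType = {2} ∨ a.cycleType = {2, 2} ∨ a.cycleType = {2, 2, 2} := by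
  by_cases ha1 : a = 1
  · exact Or.inl ha1
  right
  have ho : orderOf a = 2 := orderOf_eq_prime (by rw [pow_two, ha]) ha1
  obtain ⟨n, hn⟩ := Perm.cycleType_prime_order (σ := a) (by rw [ho]; exact Nat.prime_two)
  rw [ho] at hn
  have h7 := Perm.sum_cycleType_le a
  rw [hn] at h7
  simp only [Multiset.sum_replicate, smul_eq_mul, Fintype.card_fin] at h7
  have h012 : n = 0 ∨ n = 1 ∨ n = 2 := by omega
  rcases h012 with rfl | rfl | rfl
  · exact Or.inl hn
  · exact Or.inr (Or.inl hn)
  · exact Or.inr (Or.inr hn)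

/-- a class function counted by types -/
theorem card_types (P : S7 → Prop) [DecidablePred P] (hP : ∀ a, P a → a * a = 1)
    (hc : ∀ a b, a.cycleType = b.cycleType → P a → P b) [Decidable (P 1)] [Decidable (P e1)] [Decidable (P e2)]
    [Decidable (P e3)] :
    (Finset.univ.filter P).card = (if P 1 then 1 else 0) + (if P e1 then 21 else 0) +
      (if P e2 then 105 else 0) + (if P e3 then 105 else 0) := by
  have n01 : (1 : S7).cycleType ≠ e1.cycleType := by rw [ct1, Perm.cycleType_one]; decide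
  have n02 : (1 : S7).cycleType ≠ e2.cycleType := by rw [ct2, Perm.cycleType_one]; decide
  have n03 : (1 : S7).cycleType ≠ e3.cycleType := by rw [ct3, Perm.cycleType_one]; decide
  have n12 : e1.cycleType ≠ e2.cycleType := by rw [ct1, ct2]; decide
  have n13 : e1.cycleType ≠ e3.cycleType := by rw [ct1, ct3]; decide
  have n23 : e2.cycleType ≠ e3.cycleType := by rw [ct2, ct3]; decide
  have key : ∀ a : S7, (if P a then 1 else 0) =
      (if a = 1 then (if P 1 then 1 else 0) else 0) +
      (if a.cycleType = e1.cycleType then (if P e1 then 1 else 0) else 0) +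
      (if a.cycleType = e2.cycleType then (if P e2 then 1 else 0) else 0) +
      (if a.cycleType = e3.cycleType then (if P e3 then 1 else 0) else 0) := by
    intro a
    by_cases ha : a * a = 1
    · have ht := type_of_sq ha
      rw [← ct3, ← ct2, ← ct1] at ht
      rcases ht with h | h | h | h
      · rw [h, if_pos rfl, if_neg n01, if_neg n02, if_neg n03]
        simp
      · have h1 : a ≠ 1 := by
          rintro rfl
          exact n01 h
        have h2 : P a ↔ P e1 := ⟨hc _ _ h, hc _ _ h.symm⟩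
        rw [if_neg h1, h, if_pos rfl, if_neg n12, if_neg n13]
        simp [h2]
      · have h1 : a ≠ 1 := by
          rintro rfl
          exact n02 h
        have h2 : P a ↔ P e2 := ⟨hc _ _ h, hc _ _ h.symm⟩
        rw [if_neg h1, h, if_neg n12.symm, if_pos rfl, if_neg n23]
        simp [h2]
      · have h1 : a ≠ 1 := by
          rintro rfl
          exact n03 h
        have h2 : P a ↔ P e3 := ⟨hc _ _ h, hc _ _ h.symm⟩
        rw [if_neg h1, h, if_neg n13.symm, if_neg n23.symm, if_pos rfl]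
        simp [h2]
    · have h0 : ¬ P a := fun h => ha (hP a h)
      have h1 : a ≠ 1 := by
        rintro rfl
        exact ha (one_mul 1)
      have hsq : ∀ b : S7, b * b = 1 → a.cycleType ≠ b.cycleType := by
        intro b hb e
        obtain ⟨c, hc'⟩ := isConj_iff.1 (Perm.isConj_iff_cycleType_eq.2 e.symm)
        apply ha
        rw [← hc']
        calc c * b * c⁻¹ * (c * b * c⁻¹) = c * (b * b) * c⁻¹ := by group
          _ = 1 := by rw [hb]; group
      rw [if_neg h0, if_neg h1, if_neg (hsq e1 (by decide)), if_neg (hsq e2 (by decide)), if_neg (hsq e3 (by decide))]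
  have hs : ∀ (Q : S7 → Prop) [DecidablePred Q] (n : ℕ), (∑ a : S7, if Q a then n else 0) =
      (Finset.univ.filter Q).card * n := by
    intro Q _ n
    rw [← Finset.sum_filter, Finset.sum_const, smul_eq_mul]
  rw [Finset.card_filter, Finset.sum_congr rfl (fun a _ => key a), Finset.sum_add_distrib, Finset.sum_add_distrib,
    Finset.sum_add_distrib, hs, hs, hs, hs, ct1, ct2, ct3, card1, card2, card3]
  have h1 : (Finset.univ.filter (fun a : S7 => a = 1)).card = 1 := by
    rw [Finset.filter_eq']; simp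
  rw [h1]
  simp

/-! ### The conjugates of `t` -/

theorem conj_iota {a b : S7} (e : a.cycleType = b.cycleType) (ha : IsConj t (ι a)) : IsConj t (ι b) := by
  obtain ⟨c, rfl⟩ := isConj_iff.1 (Perm.isConj_iff_cycleType_eq.2 e)
  refine ha.trans (isConj_iff.2 ⟨ι c, ?_⟩)
  rw [map_mul, map_mul, map_inv]

theorem conj_t_iota (h : Spl t ι) {a b : S7} (e : a.cycleType = b.cycleType) (ha : IsConj t (t * ι a)) :
    IsConj t (t * ι b) := by
  obtain ⟨c, rfl⟩ := isConj_iff.1 (Perm.isConj_iff_cycleType_eq.2 e)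
  refine ha.trans (isConj_iff.2 ⟨ι c, ?_⟩)
  rw [map_mul, map_mul, map_inv]
  calc ι c * (t * ι a) * (ι c)⁻¹ = (ι c * t) * ι a * (ι c)⁻¹ := by group
    _ = t * (ι c * ι a * (ι c)⁻¹) := by rw [h.comm' c]; group

theorem sq_of_conj {y : G} (h : Spl t ι) (hy : IsConj t y) : y * y = 1 := by
  obtain ⟨c, rfl⟩ := isConj_iff.1 hy
  calc c * t * c⁻¹ * (c * t * c⁻¹) = c * (t * t) * c⁻¹ := by group
    _ = 1 := by rw [h.tt]; group

theorem sq_iota (h : Spl t ι) {a : S7} (ha : IsConj t (ι a)) : a * a = 1 := by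
  apply h.inj
  rw [map_mul, map_one]
  exact sq_of_conj h ha

theorem sq_t_iota (h : Spl t ι) {a : S7} (ha : IsConj t (t * ι a)) : a * a = 1 := by
  apply h.inj
  rw [map_mul, map_one]
  have h1 := sq_of_conj h ha
  calc ι a * ι a = (t * t) * (ι a * ι a) := by rw [h.tt, one_mul]
    _ = t * (t * ι a) * ι a := by group
    _ = t * (ι a * t) * ι a := by rw [h.comm a]
    _ = 1 := by rw [← h1]; group

theorem not_conj_one (h : Spl t ι) : ¬ IsConj t (ι 1) := by
  intro hc
  rw [map_one] at hc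
  obtain ⟨c, hc⟩ := isConj_iff.1 hc
  apply h.t1
  rw [mul_inv_eq_one] at hc
  exact mul_eq_left.1 hc

open Classical in
/-- the number of `a` with `t ι a` conjugate to `t` -/
theorem card_A (h : Spl t ι) : (Finset.univ.filter (fun a : S7 => IsConj t (t * ι a))).card =
    1 + (if IsConj t (t * ι e1) then 21 else 0) + (if IsConj t (t * ι e2) then 105 else 0) +
      (if IsConj t (t * ι e3) then 105 else 0) := by
  rw [card_types (fun a : S7 => IsConj t (t * ι a)) (fun a => sq_t_iota h) (fun a b => conj_t_iota h)]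
  rw [if_pos]
  rw [map_one, mul_one]

open Classical in
/-- the number of `a` with `ι a` conjugate to `t` -/
theorem card_B (h : Spl t ι) (disj : ∀ a, Perm.sign a = 1 → ¬ IsConj t (ι a)) :
    (Finset.univ.filter (fun a : S7 => IsConj t (ι a))).card =
    (if IsConj t (ι e1) then 21 else 0) + (if IsConj t (ι e3) then 105 else 0) := by
  rw [card_types (fun a : S7 => IsConj t (ι a)) (fun a => sq_iota h) (fun a b => conj_iota),
    if_neg (disj 1 (by simp)), if_neg (disj e2 (by decide))]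
  omega

open Classical in
theorem even_A [Finite G] (hG : ∀ H : Subgroup G, H.index ≠ 2) (h : Spl t ι) :
    Even (1 + (if IsConj t (t * ι e1) then 21 else 0) + (if IsConj t (t * ι e2) then 105 else 0) +
      (if IsConj t (t * ι e3) then 105 else 0)) := by
  obtain ⟨E, hE⟩ := exists_equiv h
  have h1 : (-1 : ℤˣ) ≠ 1 := by decide
  have h2 := TForm.even_card_hom hG h.tt ((MonoidHom.fst ℤˣ S7).comp E.symm.toMonoidHom)
  rw [← card_A h]
  have e : {x : centralizer ({t} : Set G) // (MonoidHom.fst ℤˣ S7).comp E.symm.toMonoidHom x = -1 ∧ IsConj t (x : G)} ≃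
      {a : S7 // a ∈ Finset.univ.filter (fun a : S7 => IsConj t (t * ι a))} :=
    { toFun := fun x => ⟨(E.symm x.1).2, by
        rw [Finset.mem_filter]
        refine ⟨Finset.mem_univ _, ?_⟩
        have h3 := hE (E.symm x.1)
        rw [E.apply_symm_apply, if_neg (by
          have h4 : (E.symm x.1).1 = -1 := x.2.1
          rw [h4]; exact h1)] at h3
        rw [← h3]
        exact x.2.2⟩
      invFun := fun a => ⟨E (-1, a.1), by
        refine ⟨?_, ?_⟩
        · show (E.symm (E (-1, a.1))).1 = -1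
          rw [E.symm_apply_apply]
        · rw [hE, if_neg h1]
          exact (Finset.mem_filter.1 a.2).2⟩
      left_inv := fun x => by
        apply Subtype.ext
        show E (-1, (E.symm x.1).2) = x.1
        have h4 : (E.symm x.1).1 = -1 := x.2.1
        have h5 : ((-1 : ℤˣ), (E.symm x.1).2) = E.symm x.1 := Prod.ext h4.symm rfl
        rw [h5, E.apply_symm_apply]
      right_inv := fun a => by
        apply Subtype.ext
        show (E.symm (E (-1, a.1))).2 = a.1
        rw [E.symm_apply_apply] }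
  rw [Nat.card_congr e, Nat.card_eq_fintype_card, Fintype.card_coe] at h2
  exact h2

open Classical in
theorem even_B [Finite G] (hG : ∀ H : Subgroup G, H.index ≠ 2) (h : Spl t ι) :
    Even (1 + (if IsConj t (ι e1) then 21 else 0) + (if IsConj t (t * ι e2) then 105 else 0) +
      (if IsConj t (ι e3) then 105 else 0)) := by
  obtain ⟨E, hE⟩ := exists_equiv h
  have h1 : (-1 : ℤˣ) ≠ 1 := by decide
  have h2 := TForm.even_card_hom hG h.tt
    ((MonoidHom.fst ℤˣ S7 * Perm.sign.comp (MonoidHom.snd ℤˣ S7)).comp E.symm.toMonoidHom)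
  set P : S7 → Prop := fun a => (Perm.sign a = 1 ∧ IsConj t (t * ι a)) ∨ (Perm.sign a = -1 ∧ IsConj t (ι a)) with hP
  have hc : (Finset.univ.filter P).card = 1 + (if IsConj t (ι e1) then 21 else 0) +
      (if IsConj t (t * ι e2) then 105 else 0) + (if IsConj t (ι e3) then 105 else 0) := by
    have s1 : Perm.sign e1 = -1 := by decide
    have s2 : Perm.sign e2 = 1 := by decide
    have s3 : Perm.sign e3 = -1 := by decide
    rw [card_types P ?_ ?_]
    · have p1 : P 1 ↔ True := by
        rw [hP]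
        simp only [map_one, true_and, mul_one, iff_true]
        exact Or.inl (IsConj.refl t)
      have p2 : P e1 ↔ IsConj t (ι e1) := by
        rw [hP]; simp only [s1, h1, false_and, false_or, true_and]
      have p3 : P e2 ↔ IsConj t (t * ι e2) := by
        rw [hP]; simp only [s2, h1.symm, false_and, or_false, true_and]
      have p4 : P e3 ↔ IsConj t (ι e3) := by
        rw [hP]; simp only [s3, h1, false_and, false_or, true_and]
      simp only [p1, p2, p3, p4, if_true]
    · rintro a (⟨-, ha⟩ | ⟨-, ha⟩)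
      · exact sq_t_iota h ha
      · exact sq_iota h ha
    · intro a b e
      have hs : Perm.sign a = Perm.sign b := by
        obtain ⟨c, rfl⟩ := isConj_iff.1 (Perm.isConj_iff_cycleType_eq.2 e)
        rw [map_mul, map_mul, map_inv, mul_comm (Perm.sign c), mul_assoc, mul_inv_cancel, mul_one]
      rintro (⟨h3, ha⟩ | ⟨h3, ha⟩)
      · exact Or.inl ⟨hs.symm.trans h3, conj_t_iota h e ha⟩
      · exact Or.inr ⟨hs.symm.trans h3, conj_iota e ha⟩
  rw [← hc]
  have key : ∀ x : ℤˣ × S7, (x.1 * Perm.sign x.2 = -1 ∧ IsConj t (E x : G)) ↔ (x.1 = -Perm.sign x.2 ∧ P x.2) := by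
    rintro ⟨ε, a⟩
    rw [hE, hP]
    rcases Int.units_eq_one_or ε with he | he <;> rcases Int.units_eq_one_or (Perm.sign a) with ha | ha
    · simp [he, ha]
    · simp [he, ha]
    · simp [he, ha]
    · simp [he, ha]
  have e : {x : centralizer ({t} : Set G) // ((MonoidHom.fst ℤˣ S7 * Perm.sign.comp (MonoidHom.snd ℤˣ S7)).comp
      E.symm.toMonoidHom) x = -1 ∧ IsConj t (x : G)} ≃ {a : S7 // a ∈ Finset.univ.filter P} :=
    { toFun := fun x => ⟨(E.symm x.1).2, by
        rw [Finset.mem_filter]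
        refine ⟨Finset.mem_univ _, ?_⟩
        exact ((key (E.symm x.1)).1 ⟨x.2.1, by rw [E.apply_symm_apply]; exact x.2.2⟩).2⟩
      invFun := fun a => ⟨E (-Perm.sign a.1, a.1), by
        have h3 := (key (-Perm.sign a.1, a.1)).2 ⟨rfl, (Finset.mem_filter.1 a.2).2⟩
        refine ⟨?_, h3.2⟩
        show (E.symm (E (-Perm.sign a.1, a.1))).1 * Perm.sign (E.symm (E (-Perm.sign a.1, a.1))).2 = -1
        rw [E.symm_apply_apply]
        exact h3.1⟩
      left_inv := fun x => by
        apply Subtype.ext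
        show E (-Perm.sign (E.symm x.1).2, (E.symm x.1).2) = x.1
        have h4 := ((key (E.symm x.1)).1 ⟨x.2.1, by rw [E.apply_symm_apply]; exact x.2.2⟩).1
        rw [← h4, Prod.mk.eta, E.apply_symm_apply]
      right_inv := fun a => by
        apply Subtype.ext
        show (E.symm (E (-Perm.sign a.1, a.1))).2 = a.1
        rw [E.symm_apply_apply] }
  rw [Nat.card_congr e, Nat.card_eq_fintype_card, Fintype.card_coe] at h2
  exact h2

open Classical in
theorem mod_four [Finite G] (hG : ∀ H : Subgroup G, H.index ≠ 2) (h : Spl t ι)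
    (disj : ∀ a, Perm.sign a = 1 → ¬ IsConj t (ι a)) :
    (centralizer ({t} : Set G)).index ≡
      (1 + (if IsConj t (t * ι e1) then 21 else 0) + (if IsConj t (t * ι e2) then 105 else 0) +
      (if IsConj t (t * ι e3) then 105 else 0)) +
      ((if IsConj t (ι e1) then 21 else 0) + (if IsConj t (ι e3) then 105 else 0)) [MOD 4] := by
  have h1 := Lib.ModFour.card_conj_modEq hG t h.tt
  rw [Lib.ModFour.card_isConj] at h1
  rw [← card_A h, ← card_B h disj]
  have h2 : Nat.card {y : G // IsConj t y ∧ y * t = t * y} =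
      (Finset.univ.filter (fun a : S7 => IsConj t (t * ι a))).card +
      (Finset.univ.filter (fun a : S7 => IsConj t (ι a))).card := by
    obtain ⟨E, hE⟩ := exists_equiv h
    have h3 : (-1 : ℤˣ) ≠ 1 := by decide
    have e : {y : G // IsConj t y ∧ y * t = t * y} ≃ {x : ℤˣ × S7 // IsConj t (E x : G)} :=
      { toFun := fun y => ⟨E.symm ⟨y.1, mem_centralizer_singleton_iff.2 y.2.2⟩, by
          rw [E.apply_symm_apply]; exact y.2.1⟩
        invFun := fun x => ⟨(E x.1 : G), x.2, mem_centralizer_singleton_iff.1 (E x.1).2⟩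
        left_inv := fun y => by
          apply Subtype.ext
          show (E (E.symm ⟨y.1, _⟩) : G) = y.1
          rw [E.apply_symm_apply]
        right_inv := fun x => by
          apply Subtype.ext
          show E.symm ⟨(E x.1 : G), _⟩ = x.1
          rw [MulEquiv.symm_apply_eq] }
    have e2 : {x : ℤˣ × S7 // IsConj t (E x : G)} ≃
        {a : S7 // a ∈ Finset.univ.filter (fun a : S7 => IsConj t (t * ι a))} ⊕
        {a : S7 // a ∈ Finset.univ.filter (fun a : S7 => IsConj t (ι a))} :=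
      { toFun := fun x => if hx : x.1.1 = 1 then Sum.inr ⟨x.1.2, by
            rw [Finset.mem_filter]
            refine ⟨Finset.mem_univ _, ?_⟩
            have := x.2
            rwa [hE, if_pos hx, one_mul] at this⟩
          else Sum.inl ⟨x.1.2, by
            rw [Finset.mem_filter]
            refine ⟨Finset.mem_univ _, ?_⟩
            have := x.2
            rwa [hE, if_neg hx] at this⟩
        invFun := fun s => match s with
          | Sum.inl a => ⟨(-1, a.1), by
              rw [hE, if_neg h3]; exact (Finset.mem_filter.1 a.2).2⟩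
          | Sum.inr a => ⟨(1, a.1), by
              rw [hE, if_pos rfl, one_mul]; exact (Finset.mem_filter.1 a.2).2⟩
        left_inv := by
          rintro ⟨⟨ε, a⟩, hx⟩
          rcases Int.units_eq_one_or ε with he | he
          · subst he
            simp
          · subst he
            simp [h3]
        right_inv := by
          rintro (⟨a, ha⟩ | ⟨a, ha⟩)
          · simp [h3]
          · simp }
    rw [Nat.card_congr (e.trans e2), Nat.card_sum, Nat.card_eq_fintype_card, Nat.card_eq_fintype_card,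
      Fintype.card_coe, Fintype.card_coe]
  rw [← h2]
  exact h1

end Cfsg.Agent.OddHalf.D5.Seven.Count

end

-- merged: Cfsg.Agent.OddHalf.D5.Seven.Four
section

/-!
# ODD D5, `n = 7`: four-groups of `A₇` centralised by an element of order three, and the centraliser of `(4 5)`,
`(0 1)(2 3)` (helper905)
-/

set_option autoImplicit false

namespace Cfsg.Agent.OddHalf.D5.Seven.Four

open Equiv Five
open Cfsg.Agent.OddHalf.D5.Seven.Count

/-- a permutation commuting with `(0 1)(2 3)` preserves `{4, 5, 6}` -/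
theorem fix_iff {c : S7} (hc : c * e2 = e2 * c) (x : Fin 7) : e2 (c x) = c x ↔ e2 x = x := by
  have h := congrArg (fun f : S7 => f x) hc
  simp only [Perm.mul_apply] at h
  rw [← h]
  exact c.injective.eq_iff

/-- the points `4, 5, 6` -/
def pt : Fin 3 → Fin 7 := ![4, 5, 6]
/-- the inverse -/
def ix : Fin 7 → Fin 3 := ![0, 0, 0, 0, 0, 1, 2]
/-- the points `0, 1, 2, 3` -/
def pt4 : Fin 4 → Fin 7 := ![0, 1, 2, 3]
/-- the inverse -/
def ix4 : Fin 7 → Fin 4 := ![0, 1, 2, 3, 0, 0, 0]
/-- the involution on four points -/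
def zz4 : Fin 4 → Fin 4 := ![1, 0, 3, 2]

theorem pt_ix : ∀ x : Fin 7, e2 x = x → pt (ix x) = x := by decide
theorem ix_pt : ∀ i, ix (pt i) = i := by decide
theorem pt4_ix : ∀ x : Fin 7, e2 x ≠ x → pt4 (ix4 x) = x := by decide
theorem ix4_pt : ∀ i, ix4 (pt4 i) = i := by decide
theorem e2_pt : ∀ i, e2 (pt i) = pt i := by decide
theorem e2_pt4 : ∀ i, e2 (pt4 i) ≠ pt4 i := by decide
theorem e2_zz4 : ∀ i, e2 (pt4 i) = pt4 (zz4 i) := by decide

theorem three_pts : ∀ D B : Fin 3 → Fin 3, (∀ i, D (D (D i)) = i) ∧ (∀ i, D (B i) = B (D i)) ∧ (∀ i, B (B i) = i) ∧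
    (∃ i, D i ≠ i) → ∀ i, B i = i := by decide +kernel

theorem four_pts : ∀ F : Fin 4 → Fin 4, (∀ i, F (F (F i)) = i) ∧ (∀ i, F (zz4 i) = zz4 (F i)) → ∀ i, F i = i := by
  decide +kernel

/-- an element of order three commuting with `(0 1)(2 3)` moves one of `4, 5, 6` -/
theorem moves {d : S7} (hd : d * e2 = e2 * d) (h3 : d * d * d = 1) (h1 : d ≠ 1) : ∃ i, ix (d (pt i)) ≠ i := by
  by_contra hcon
  push Not at hcon
  have h3' : ∀ x, d (d (d x)) = x := fun x => congrArg (fun f : S7 => f x) h3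
  have hd4 : ∀ i, pt4 (ix4 (d (pt4 i))) = d (pt4 i) := fun i => pt4_ix _ (fun e => e2_pt4 i ((fix_iff hd _).1 e))
  have key := four_pts (fun i => ix4 (d (pt4 i))) ⟨fun i => by
    show ix4 (d (pt4 (ix4 (d (pt4 (ix4 (d (pt4 i)))))))) = i
    rw [hd4, hd4, h3', ix4_pt], fun i => by
    show ix4 (d (pt4 (zz4 i))) = zz4 (ix4 (d (pt4 i)))
    have e : d (e2 (pt4 i)) = e2 (d (pt4 i)) := congrArg (fun f : S7 => f (pt4 i)) hd
    rw [← e2_zz4, e, ← hd4 i, e2_zz4, ix4_pt, ix4_pt]⟩
  apply h1
  ext1 x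
  show d x = x
  by_cases hx : e2 x = x
  · have e := hcon (ix x)
    rw [pt_ix x hx] at e
    have e' := pt_ix (d x) ((fix_iff hd x).2 hx)
    rw [e, pt_ix x hx] at e'
    exact e'.symm
  · have e := key (ix4 x)
    have e' : pt4 (ix4 (d (pt4 (ix4 x)))) = pt4 (ix4 x) := congrArg pt4 e
    rw [hd4, pt4_ix x hx] at e'
    exact e'

/-- an involution commuting with `(0 1)(2 3)` and an element of order three fixes `4, 5, 6` -/
theorem fixes {b d : S7} (hb : b * e2 = e2 * b) (hd : d * e2 = e2 * d) (h3 : d * d * d = 1) (h1 : d ≠ 1)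
    (hbd : b * d = d * b) (hbb : b * b = 1) (i : Fin 3) : b (pt i) = pt i := by
  obtain ⟨j, hj⟩ := moves hd h3 h1
  have h3' : ∀ x, d (d (d x)) = x := fun x => congrArg (fun f : S7 => f x) h3
  have hbb' : ∀ x, b (b x) = x := fun x => congrArg (fun f : S7 => f x) hbb
  have hdp : ∀ i, pt (ix (d (pt i))) = d (pt i) := fun i => pt_ix _ ((fix_iff hd _).2 (e2_pt i))
  have hbp : ∀ i, pt (ix (b (pt i))) = b (pt i) := fun i => pt_ix _ ((fix_iff hb _).2 (e2_pt i))
  have key := three_pts (fun i => ix (d (pt i))) (fun i => ix (b (pt i))) ⟨fun i => by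
    show ix (d (pt (ix (d (pt (ix (d (pt i)))))))) = i
    rw [hdp, hdp, h3', ix_pt], fun i => by
    show ix (d (pt (ix (b (pt i))))) = ix (b (pt (ix (d (pt i)))))
    rw [hbp, hdp]
    have e : b (d (pt i)) = d (b (pt i)) := congrArg (fun f : S7 => f (pt i)) hbd
    rw [e], fun i => by
    show ix (b (pt (ix (b (pt i))))) = i
    rw [hbp, hbb', ix_pt], ⟨j, hj⟩⟩ i
  rw [← hbp i]
  exact congrArg pt key

theorem five_VV : ∀ b : Perm (Fin 5), b * z5 = z5 * b ∧ Perm.sign b = 1 ∧ b ≠ 1 ∧ b ≠ z5 → b = v5 ∨ b = z5 * v5 := by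
  decide +kernel

theorem em_z5' : em z5 = e2 := em_z5

/-- **Four-groups of `A₇` centralised by an element of order three are conjugate.** -/
theorem exists_c {a b d : S7} (ha : a * a = 1) (ha1 : a ≠ 1) (hsa : Perm.sign a = 1) (hb : b * b = 1) (hb1 : b ≠ 1)
    (hsb : Perm.sign b = 1) (hab : a ≠ b) (hcab : a * b = b * a) (hd : d * d * d = 1) (hd1 : d ≠ 1)
    (hda : d * a = a * d) (hdb : d * b = b * d) : ∃ c : S7, c * a * c⁻¹ = em z5 ∧ c * b * c⁻¹ = em v5 := by
  -- `a` is conjugate to `(0 1)(2 3)`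
  have hta : a.cycleType = e2.cycleType := by
    have hsc : ∀ x : S7, a.cycleType = x.cycleType → Perm.sign x = 1 := by
      intro x hx
      obtain ⟨c, rfl⟩ := isConj_iff.1 (Perm.isConj_iff_cycleType_eq.2 hx)
      rw [map_mul, map_mul, map_inv, hsa, mul_one, mul_inv_cancel]
    rcases type_of_sq ha with h | h | h | h
    · exact absurd h ha1
    · exact absurd (hsc e1 (h.trans ct1.symm)) (by decide)
    · exact h.trans ct2.symm
    · exact absurd (hsc e3 (h.trans ct3.symm)) (by decide)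
  obtain ⟨c, hc⟩ := isConj_iff.1 (Perm.isConj_iff_cycleType_eq.2 hta)
  -- transport
  obtain ⟨b', hb'⟩ : ∃ b', b' = c * b * c⁻¹ := ⟨_, rfl⟩
  obtain ⟨d', hd'⟩ : ∃ d', d' = c * d * c⁻¹ := ⟨_, rfl⟩
  have h1 : b' * e2 = e2 * b' := by
    rw [hb', ← hc]
    calc c * b * c⁻¹ * (c * a * c⁻¹) = c * (b * a) * c⁻¹ := by group
      _ = c * (a * b) * c⁻¹ := by rw [hcab]
      _ = c * a * c⁻¹ * (c * b * c⁻¹) := by group
  have h2 : d' * e2 = e2 * d' := by
    rw [hd', ← hc]
    calc c * d * c⁻¹ * (c * a * c⁻¹) = c * (d * a) * c⁻¹ := by group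
      _ = c * (a * d) * c⁻¹ := by rw [hda]
      _ = c * a * c⁻¹ * (c * d * c⁻¹) := by group
  have h3 : b' * d' = d' * b' := by
    rw [hd', hb']
    calc c * b * c⁻¹ * (c * d * c⁻¹) = c * (b * d) * c⁻¹ := by group
      _ = c * (d * b) * c⁻¹ := by rw [hdb]
      _ = c * d * c⁻¹ * (c * b * c⁻¹) := by group
  have h4 : d' * d' * d' = 1 := by
    rw [hd']
    calc c * d * c⁻¹ * (c * d * c⁻¹) * (c * d * c⁻¹) = c * (d * d * d) * c⁻¹ := by group
      _ = 1 := by rw [hd]; group
  have h5 : d' ≠ 1 := by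
    rw [hd', ne_eq, mul_inv_eq_one]
    intro e
    exact hd1 (mul_eq_left.1 e)
  have h6 : b' * b' = 1 := by
    rw [hb']
    calc c * b * c⁻¹ * (c * b * c⁻¹) = c * (b * b) * c⁻¹ := by group
      _ = 1 := by rw [hb]; group
  have h7 : b' ≠ 1 := by
    rw [hb', ne_eq, mul_inv_eq_one]
    intro e
    exact hb1 (mul_eq_left.1 e)
  have h8 : b' ≠ e2 := by
    rw [hb', ← hc]
    intro e
    exact hab (mul_left_cancel (mul_right_cancel e)).symm
  have h9 := fixes h1 h2 h4 h5 h3 h6
  obtain ⟨x, hx⟩ := exists_em (h9 0) (h9 1)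
  have hx1 : x * z5 = z5 * x := by
    apply em_inj
    rw [map_mul, map_mul, em_z5', hx, h1]
  have hx2 : Perm.sign x = 1 := by
    rw [← sign_em, hx, hb', map_mul, map_mul, map_inv, hsb, mul_one, mul_inv_cancel]
  have hx3 : x ≠ 1 := by
    rintro rfl
    rw [map_one] at hx
    exact h7 hx.symm
  have hx4 : x ≠ z5 := by
    rintro rfl
    rw [em_z5'] at hx
    exact h8 hx.symm
  rcases five_VV x ⟨hx1, hx2, hx3, hx4⟩ with h | h
  · refine ⟨c, by rw [hc, em_z5'], ?_⟩
    rw [← hb', ← hx, h]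
  · refine ⟨em (swap 0 1) * c, ?_, ?_⟩
    · have e : swap 0 1 * z5 * (swap 0 1)⁻¹ = z5 := by decide +kernel
      calc em (swap 0 1) * c * a * (em (swap 0 1) * c)⁻¹ = em (swap 0 1) * (c * a * c⁻¹) * (em (swap 0 1))⁻¹ := by group
        _ = Five.em (swap 0 1 * z5 * (swap 0 1)⁻¹) := by rw [hc, ← em_z5', map_mul, map_mul, map_inv]
        _ = em z5 := by rw [e]
    · have e : swap 0 1 * (z5 * v5) * (swap 0 1)⁻¹ = v5 := by decide +kernel
      calc em (swap 0 1) * c * b * (em (swap 0 1) * c)⁻¹ = em (swap 0 1) * (c * b * c⁻¹) * (em (swap 0 1))⁻¹ := by group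
        _ = Five.em (swap 0 1 * (z5 * v5) * (swap 0 1)⁻¹) := by rw [← hb', ← hx, h, map_mul em (swap 0 1 * (z5 * v5)), map_mul em (swap 0 1), map_inv]
        _ = em v5 := by rw [e]

/-! ### The centraliser of `(4 5)` and `(0 1)(2 3)` -/

theorem card_cz : Fintype.card {b : Perm (Fin 5) // b * z5 = z5 * b} = 8 := by decide +kernel

/-- a permutation commuting with `(4 5)` -/
theorem split {a : S7} (ha : a * e1 = e1 * a) : ∃ b : Perm (Fin 5), a = em b ∨ a = e1 * em b := by
  have h2 : ∀ x : Fin 7, x = 4 ∨ x = 5 → a x = 4 ∨ a x = 5 := by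
    intro x hx
    by_contra hcon
    push Not at hcon
    have h3 := congrArg (fun f : Perm (Fin 7) => f x) ha
    simp only [Perm.mul_apply] at h3
    rw [show e1 (a x) = a x from swap_apply_of_ne_of_ne hcon.1 hcon.2] at h3
    have h4 := a.injective h3
    rcases hx with rfl | rfl
    · exact absurd h4 (by decide)
    · exact absurd h4 (by decide)
  rcases h2 4 (Or.inl rfl) with h4 | h4
  · have h5 : a 5 = 5 := by
      rcases h2 5 (Or.inr rfl) with h5 | h5
      · exact absurd (a.injective (h5.trans h4.symm)) (by decide)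
      · exact h5
    obtain ⟨b, hb⟩ := exists_em h4 h5
    exact ⟨b, Or.inl hb.symm⟩
  · have h5 : a 5 = 4 := by
      rcases h2 5 (Or.inr rfl) with h5 | h5
      · exact h5
      · exact absurd (a.injective (h5.trans h4.symm)) (by decide)
    have e4 : (e1 * a) 4 = 4 := by
      rw [Perm.mul_apply, h4]; decide
    have e5 : (e1 * a) 5 = 5 := by
      rw [Perm.mul_apply, h5]; decide
    obtain ⟨b, hb⟩ := exists_em e4 e5
    refine ⟨b, Or.inr ?_⟩
    rw [hb, ← mul_assoc, show e1 * e1 = 1 by decide, one_mul]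

theorem em_comm1 (b : Perm (Fin 5)) : em b * e1 = e1 * em b := by
  have h1 : em b * swap 4 5 * (em b)⁻¹ = swap (em b 4) (em b 5) := by rw [Equiv.swap_apply_apply]
  rw [em_fix b (Or.inl rfl), em_fix b (Or.inr rfl)] at h1
  exact mul_inv_eq_iff_eq_mul.1 h1

theorem comm_e2_iff {b : Perm (Fin 5)} : em b * e2 = e2 * em b ↔ b * z5 = z5 * b := by
  rw [← em_z5', ← map_mul, ← map_mul]
  exact em_inj.eq_iff

/-- `|C(e₁, e₂)| = 16` -/
theorem card_ce : Nat.card {a : S7 // a * e1 = e1 * a ∧ a * e2 = e2 * a} = 16 := by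
  have h11 : e1 * e1 = 1 := by decide
  have h12 : e1 * e2 = e2 * e1 := by decide
  have h0 : (-1 : ℤˣ) ≠ 1 := by decide
  let f : ℤˣ × {b : Perm (Fin 5) // b * z5 = z5 * b} → {a : S7 // a * e1 = e1 * a ∧ a * e2 = e2 * a} := fun x =>
    ⟨(if x.1 = 1 then 1 else e1) * em x.2.1, by
      have hx1 := em_comm1 x.2.1
      have hx2 := comm_e2_iff.2 x.2.2
      split_ifs
      · rw [one_mul]
        exact ⟨hx1, hx2⟩
      · refine ⟨?_, ?_⟩
        · rw [mul_assoc, hx1]
        · rw [mul_assoc, hx2, ← mul_assoc, h12, mul_assoc]⟩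
  have hf : Function.Bijective f := by
    constructor
    · rintro ⟨ε, b⟩ ⟨ε', b'⟩ e
      have e1' : (if ε = 1 then 1 else e1) * em b.1 = (if ε' = 1 then 1 else e1) * em b'.1 := congrArg Subtype.val e
      have e4 := congrArg (fun g : S7 => g 4) e1'
      simp only [Perm.mul_apply, em_fix b.1 (Or.inl rfl), em_fix b'.1 (Or.inl rfl)] at e4
      have hε : ε = ε' := by
        rcases Int.units_eq_one_or ε with he | he <;> rcases Int.units_eq_one_or ε' with he' | he'
        · rw [he, he']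
        · rw [he, he', if_pos rfl, if_neg h0] at e4
          exact absurd e4 (by decide)
        · rw [he, he', if_pos rfl, if_neg h0] at e4
          exact absurd e4 (by decide)
        · rw [he, he']
      subst hε
      have := em_inj (mul_left_cancel e1')
      rw [Subtype.ext this]
    · rintro ⟨a, ha1, ha2⟩
      obtain ⟨b, hb | hb⟩ := split ha1
      · refine ⟨(1, ⟨b, comm_e2_iff.1 (by rw [← hb]; exact ha2)⟩), Subtype.ext ?_⟩
        show (if (1 : ℤˣ) = 1 then 1 else e1) * em b = a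
        rw [if_pos rfl, one_mul, hb]
      · have h3 : em b * e2 = e2 * em b := by
          rw [hb] at ha2
          apply mul_left_cancel (a := e1)
          rw [← mul_assoc, ha2, ← mul_assoc, ← mul_assoc, h12]
        refine ⟨(-1, ⟨b, comm_e2_iff.1 h3⟩), Subtype.ext ?_⟩
        show (if (-1 : ℤˣ) = 1 then 1 else e1) * em b = a
        rw [if_neg h0, hb]
  rw [← Nat.card_eq_of_bijective f hf, Nat.card_prod, Nat.card_eq_fintype_card, Nat.card_eq_fintype_card, card_cz]
  rfl

theorem cz_small : ∀ b : Perm (Fin 5), b * z5 = z5 * b ∧ b * swap 0 1 = swap 0 1 * b ∧ b * v5 = v5 * b →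
    b = 1 ∨ b = z5 := by decide +kernel

/-- the centre of `C(e₁, e₂)` -/
theorem center_ce {a : S7} (h1 : a * e1 = e1 * a) (h2 : a * e2 = e2 * a)
    (h3 : a * em (swap 0 1) = em (swap 0 1) * a) (h4 : a * em v5 = em v5 * a) :
    a = 1 ∨ a = e1 ∨ a = e2 ∨ a = e3 := by
  have h12 : e1 * e2 = e2 * e1 := by decide
  obtain ⟨b, hb⟩ := split h1
  have key : ∀ c : Perm (Fin 5), a * em c = em c * a → b * c = c * b := by
    intro c hc
    apply em_inj
    rw [map_mul, map_mul]
    rcases hb with hb | hb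
    · rw [← hb]; exact hc
    · rw [hb] at hc
      apply mul_left_cancel (a := e1)
      rw [← mul_assoc, hc, ← mul_assoc, ← mul_assoc, em_comm1]
  have h5 := cz_small b ⟨key z5 (by rw [em_z5']; exact h2), key _ h3, key _ h4⟩
  rcases h5 with h5 | h5 <;> rcases hb with hb | hb
  · left; rw [hb, h5, map_one]
  · right; left; rw [hb, h5, map_one, mul_one]
  · right; right; left; rw [hb, h5, em_z5']
  · right; right; right
    rw [hb, h5, em_z5', h12]
    rfl

theorem conj_VV : ∀ b : Perm (Fin 5), b * z5 = z5 * b → ∀ u, VV u → VV (b * u * b⁻¹) := by decide +kernel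

end Cfsg.Agent.OddHalf.D5.Seven.Four

end

-- merged: Cfsg.Agent.OddHalf.D5.Seven.Pattern
section

/-!
# ODD D5, `n = 7`: the pattern (helper905; text: bb ODD 9179, helper307, (0)-(2))

`exists_all`: `t^G ∩ C(t) = {t} ∪ t I(ι(S₇))` for a suitable complement.
-/

set_option autoImplicit false

namespace Cfsg.Agent.OddHalf.D5.Seven

open Subgroup Equiv Cfsg Cfsg.Agent.OddHalf.D3 Five Four
open Cfsg.Agent.OddHalf.D5.Seven.Count

namespace Pattern

/-! ### (0) -/

/-- `|G|₂ ≤ 2⁵` and an element of order four: sectional 2-rank at most four -/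
theorem sect_four {G : Type*} [Group G] [Finite G] (h6 : ¬ 2 ^ 6 ∣ Nat.card G) {x : G} (hx : x ^ 4 = 1)
    (hx2 : x ^ 2 ≠ 1) : SectionalPRankLE 2 4 G := by
  have : Fact (Nat.Prime 2) := ⟨Nat.prime_two⟩
  intro H N _ A _ hA
  by_contra hcon
  push Not at hcon
  have hp : IsPGroup 2 ↥A := fun a => ⟨1, by rw [pow_one]; exact Subtype.ext (hA a a.2)⟩
  obtain ⟨n, hn⟩ := hp.exists_card_eq
  rw [hn] at hcon
  have hk : 5 ≤ n := (Nat.pow_lt_pow_iff_right (by norm_num)).1 hcon
  have h32 : 2 ^ 5 ∣ Nat.card A := by rw [hn]; exact pow_dvd_pow 2 hk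
  set A' : Subgroup H := A.comap (QuotientGroup.mk' N) with hA'
  have hcA' : Nat.card A' = Nat.card A * Nat.card N := by
    have h1 : A'.index = A.index := index_comap_of_surjective A (QuotientGroup.mk'_surjective N)
    have h2 := A'.card_mul_index
    have h3 := A.card_mul_index
    have h4 := N.card_mul_index
    have h5 : Nat.card (↥H ⧸ N) = N.index := rfl
    have h6 : 0 < A.index := Nat.pos_of_ne_zero index_ne_zero_of_finite
    rw [h1] at h2
    rw [h5] at h3
    apply Nat.eq_of_mul_eq_mul_right h6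
    rw [h2, ← h4, ← h3]
    ring
  set B : Subgroup G := A'.map H.subtype with hB
  have hcB : Nat.card B = Nat.card A * Nat.card N := by
    rw [← hcA']
    exact (Nat.card_congr (A'.equivMapOfInjective H.subtype H.subtype_injective).toEquiv).symm
  have hBG : Nat.card B * B.index = Nat.card G := B.card_mul_index
  have hN : ¬ 2 ∣ Nat.card N := by
    intro h2
    apply h6
    have h1 : 2 ^ 6 ∣ Nat.card B := by
      rw [hcB, show (2 : ℕ) ^ 6 = 2 ^ 5 * 2 from rfl]
      exact mul_dvd_mul h32 h2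
    exact h1.trans (card_subgroup_dvd_card B)
  have hBi : ¬ 2 ∣ B.index := by
    intro h2
    apply h6
    rw [← hBG, show (2 : ℕ) ^ 6 = 2 ^ 5 * 2 from rfl]
    exact mul_dvd_mul (h32.trans (by rw [hcB]; exact dvd_mul_right _ _)) h2
  -- a conjugate of `x` in `B`
  have hxp : IsPGroup 2 ↥(zpowers x) := by
    intro y
    obtain ⟨k, hk⟩ := mem_zpowers_iff.1 y.2
    refine ⟨2, Subtype.ext ?_⟩
    show (y : G) ^ (2 ^ 2) = 1
    rw [← hk, ← zpow_natCast, ← zpow_mul, mul_comm k, zpow_mul, zpow_natCast]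
    norm_num
    rw [hx, one_zpow]
  obtain ⟨q, hq⟩ := hxp.nonempty_fixed_point_of_prime_not_dvd_card (G ⧸ B) (by exact hBi)
  obtain ⟨g, rfl⟩ := QuotientGroup.mk_surjective q
  have hq1 : (x • ((g : G) : G ⧸ B)) = g := hq ⟨x, mem_zpowers x⟩
  rw [MulAction.Quotient.smul_mk, smul_eq_mul, eq_comm, QuotientGroup.eq] at hq1
  have hq2 : g⁻¹ * x * g ∈ B := by rw [mul_assoc]; exact hq1
  obtain ⟨k, hk, hkg⟩ := hq2
  have hkA : (QuotientGroup.mk' N k) ∈ A := hk
  have hk2 : k ^ 2 ∈ N := by
    rw [← QuotientGroup.eq_one_iff]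
    exact hA _ hkA
  have hkg' : (k : G) = g⁻¹ * x * g := hkg
  have hk4 : (k ^ 2) ^ 2 = 1 := by
    apply Subtype.ext
    show ((k : G) ^ 2) ^ 2 = 1
    rw [← pow_mul, hkg']
    have : g⁻¹ * x * g = g⁻¹ * x * g⁻¹⁻¹ := by rw [inv_inv]
    rw [this, conj_pow, hx]; group
  have ho1 : orderOf (k ^ 2) ∣ 2 := orderOf_dvd_of_pow_eq_one hk4
  have ho2 : orderOf (k ^ 2) ∣ Nat.card N := by
    have := orderOf_dvd_natCard (⟨k ^ 2, hk2⟩ : N)
    rwa [Subgroup.orderOf_mk] at this
  have ho3 : orderOf (k ^ 2) = 1 := by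
    rcases (Nat.dvd_prime Nat.prime_two).1 ho1 with h | h
    · exact h
    · rw [h] at ho2
      exact absurd ho2 hN
  rw [orderOf_eq_one_iff] at ho3
  apply hx2
  have h7 : ((k : G)) ^ 2 = 1 := congrArg Subtype.val ho3
  rw [hkg'] at h7
  have h8 : g⁻¹ * x * g = g⁻¹ * x * g⁻¹⁻¹ := by rw [inv_inv]
  rw [h8, conj_pow, inv_inv] at h7
  calc x ^ 2 = g * (g⁻¹ * x ^ 2 * g) * g⁻¹ := by group
    _ = 1 := by rw [h7]; group

variable {G : Type*} [Group G] {t : G} {ι : S7 →* G}

/-- the number of 2's in `|G|` -/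
theorem card_G [Finite G] (h : Spl t ι) : Nat.card G = 10080 * (centralizer ({t} : Set G)).index := by
  rw [← card_cent h]
  exact (card_mul_index _).symm

theorem sect_of_odd [Finite G] (h : Spl t ι) (hodd : ¬ 2 ∣ (centralizer ({t} : Set G)).index) :
    SectionalPRankLE 2 4 G := by
  have hx : (swap 0 1 * swap 1 2 * swap 2 3 : S7) ^ 4 = 1 := by decide
  have hx2 : (swap 0 1 * swap 1 2 * swap 2 3 : S7) ^ 2 ≠ 1 := by decide
  refine sect_four (x := ι (swap 0 1 * swap 1 2 * swap 2 3)) ?_ ?_ ?_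
  · rw [card_G h]
    intro hd
    apply hodd
    have h1 : 2 ∣ 315 * (centralizer ({t} : Set G)).index := by
      obtain ⟨m, hm⟩ := hd
      exact ⟨m, by omega⟩
    rcases (Nat.Prime.dvd_mul Nat.prime_two).1 h1 with h2 | h2
    · omega
    · exact h2
  · rw [← map_pow, hx, map_one]
  · rw [← map_pow]
    intro e
    exact hx2 (h.iota_eq_one e)

/-! ### The subgroup `T` of order `32` -/

/-- `T = C(t, s, z)` -/
def TT (t : G) (ι : S7 →* G) : Subgroup G := centralizer ({t, ι e1, ι e2} : Set G)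

theorem mem_TT {y : G} : y ∈ TT t ι ↔ y * t = t * y ∧ y * ι e1 = ι e1 * y ∧ y * ι e2 = ι e2 * y := by
  rw [TT, mem_centralizer_iff]
  simp only [Set.mem_insert_iff, Set.mem_singleton_iff, forall_eq_or_imp, forall_eq]
  exact ⟨fun h => ⟨h.1.symm, h.2.1.symm, h.2.2.symm⟩, fun h => ⟨h.1.symm, h.2.1.symm, h.2.2.symm⟩⟩

/-- `t^i ι a` commutes with `ι b` iff `a` commutes with `b` -/
theorem comm_iff (h : Spl t ι) {y : G} {a b : S7} (hy : y = ι a ∨ y = t * ι a) :
    y * ι b = ι b * y ↔ a * b = b * a := by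
  constructor
  · intro e
    apply h.inj
    rw [map_mul, map_mul]
    rcases hy with rfl | rfl
    · exact e
    · apply mul_left_cancel (a := t)
      calc t * (ι a * ι b) = t * ι a * ι b := by group
        _ = ι b * (t * ι a) := e
        _ = (ι b * t) * ι a := by group
        _ = t * (ι b * ι a) := by rw [h.comm' b]; group
  · intro e
    have e' : ι a * ι b = ι b * ι a := by rw [← map_mul, e, map_mul]
    rcases hy with rfl | rfl
    · exact e'
    · calc t * ι a * ι b = t * (ι a * ι b) := by group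
        _ = (t * ι b) * ι a := by rw [e']; group
        _ = ι b * (t * ι a) := by rw [h.comm b]; group

theorem card_TT (h : Spl t ι) : Nat.card (TT t ι) = 2 ^ 5 := by
  obtain ⟨E, hE⟩ := exists_equiv h
  have hcase : ∀ x : ℤˣ × S7, (E x : G) = ι x.2 ∨ (E x : G) = t * ι x.2 := by
    intro x
    rw [hE]
    split_ifs
    · left; rw [one_mul]
    · right; rfl
  have e : TT t ι ≃ ℤˣ × {a : S7 // a * e1 = e1 * a ∧ a * e2 = e2 * a} :=
    { toFun := fun y => ((E.symm ⟨y, mem_centralizer_singleton_iff.2 (mem_TT.1 y.2).1⟩).1,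
        ⟨(E.symm ⟨y, mem_centralizer_singleton_iff.2 (mem_TT.1 y.2).1⟩).2, by
          have h1 := hcase (E.symm ⟨y, mem_centralizer_singleton_iff.2 (mem_TT.1 y.2).1⟩)
          rw [E.apply_symm_apply] at h1
          exact ⟨(comm_iff h h1).1 (mem_TT.1 y.2).2.1, (comm_iff h h1).1 (mem_TT.1 y.2).2.2⟩⟩)
      invFun := fun x => ⟨(E (x.1, x.2.1) : G), mem_TT.2
        ⟨mem_centralizer_singleton_iff.1 (E (x.1, x.2.1)).2, (comm_iff h (hcase (x.1, x.2.1))).2 x.2.2.1,
          (comm_iff h (hcase (x.1, x.2.1))).2 x.2.2.2⟩⟩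
      left_inv := fun y => by
        apply Subtype.ext
        show (E ((E.symm ⟨y, _⟩).1, (E.symm ⟨y, _⟩).2) : G) = y
        rw [Prod.mk.eta, E.apply_symm_apply]
      right_inv := fun x => by
        have h1 : E.symm ⟨(E (x.1, x.2.1) : G), (E (x.1, x.2.1)).2⟩ = (x.1, x.2.1) := by
          rw [Subtype.coe_eta, E.symm_apply_apply]
        have h2 : (E.symm ⟨(E (x.1, x.2.1) : G), (E (x.1, x.2.1)).2⟩).1 = x.1 := congrArg Prod.fst h1
        have h3 : (E.symm ⟨(E (x.1, x.2.1) : G), (E (x.1, x.2.1)).2⟩).2 = x.2.1 := congrArg Prod.snd h1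
        exact Prod.ext h2 (Subtype.ext h3) }
  rw [Nat.card_congr e, Nat.card_prod, card_ce, Nat.card_eq_fintype_card]
  rfl

/-- the elements of the centre of `T` -/
theorem center_TT (h : Spl t ι) {y : G} (hy : y ∈ TT t ι) (hc : ∀ g ∈ TT t ι, g * y = y * g) :
    ∃ a, (a = 1 ∨ a = e1 ∨ a = e2 ∨ a = e3) ∧ (y = ι a ∨ y = t * ι a) := by
  obtain ⟨h1, h2, h3⟩ := mem_TT.1 hy
  obtain ⟨a, ha⟩ := h.cases h1
  have key : ∀ b : S7, b * e1 = e1 * b → b * e2 = e2 * b → a * b = b * a := by
    intro b hb1 hb2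
    have h4 := hc (ι b) (mem_TT.2 ⟨h.comm' b, by rw [← map_mul, hb1, map_mul], by rw [← map_mul, hb2, map_mul]⟩)
    exact (comm_iff h ha).1 h4.symm
  refine ⟨a, center_ce (key e1 rfl (by decide)) (key e2 (by decide) rfl) (key _ (em_comm1 _) ?_)
    (key _ (em_comm1 _) ?_), ha⟩
  · exact comm_e2_iff.2 (by decide)
  · exact comm_e2_iff.2 (by decide +kernel)

/-- **(2), both complements**: `t^G` does not contain all the elements of `Z(T) - {z}`. -/
theorem z_case [Finite G] (h : Spl t ι) (h64 : 2 ^ 6 ∣ Nat.card G) (a1 : IsConj t (ι e1)) (a3 : IsConj t (ι e3))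
    (b1 : IsConj t (t * ι e1)) (b2 : IsConj t (t * ι e2)) (b3 : IsConj t (t * ι e3)) : False := by
  have : Fact (Nat.Prime 2) := ⟨Nat.prime_two⟩
  obtain ⟨K, hK, hTK⟩ := Sylow.exists_subgroup_card_pow_succ h64 (card_TT h)
  have hidx : ((TT t ι).subgroupOf K).index = 2 := by
    have h1 := ((TT t ι).subgroupOf K).card_mul_index
    rw [Nat.card_congr (subgroupOfEquivOfLe hTK).toEquiv, card_TT h, hK] at h1
    omega
  have hnorm : ((TT t ι).subgroupOf K).Normal := normal_of_index_eq_two hidx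
  obtain ⟨x, hx⟩ : ∃ x : K, x ∉ (TT t ι).subgroupOf K := by
    by_contra hcon
    push Not at hcon
    rw [(eq_top_iff' _).2 hcon, index_top] at hidx
    omega
  have hconj : ∀ y ∈ TT t ι, (x : G) * y * (x : G)⁻¹ ∈ TT t ι := by
    intro y hy
    exact hnorm.conj_mem ⟨y, hTK hy⟩ hy x
  have hxx : (x : G) * x ∈ TT t ι := by
    have h1 := (index_eq_two_iff.1 hidx)
    have h2 := mul_self_mem_of_index_two hidx x
    exact h2
  -- `x` centralises no conjugate of `t` in the centre of `T`
  have kill : ∀ u : G, (∀ g ∈ TT t ι, g * u = u * g) → IsConj t u → (x : G) * u ≠ u * x := by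
    intro u hu hcj hxu
    have h1 : K ≤ centralizer ({u} : Set G) := by
      intro k hk
      rw [mem_centralizer_singleton_iff]
      by_cases hkT : (⟨k, hk⟩ : K) ∈ (TT t ι).subgroupOf K
      · exact hu k hkT
      · have h2 : (⟨k, hk⟩ : K) * x⁻¹ ∈ (TT t ι).subgroupOf K := by
          rw [mul_mem_iff_of_index_two hidx]
          exact ⟨fun h3 => absurd h3 hkT, fun h3 => absurd ((inv_mem_iff).1 h3) hx⟩
        have h3 : k * (x : G)⁻¹ ∈ TT t ι := h2
        have h4 := hu _ h3
        calc k * u = (k * (x : G)⁻¹) * (x * u) := by group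
          _ = (k * (x : G)⁻¹) * (u * x) := by rw [hxu]
          _ = ((k * (x : G)⁻¹) * u) * x := by group
          _ = u * k := by rw [h4]; group
    obtain ⟨c, hc⟩ := isConj_iff.1 hcj
    have h2 : Nat.card (centralizer ({u} : Set G)) = 10080 := by
      rw [← card_cent h, ← hc, ← cj_centralizer_singleton, card_cj]
    have h3 := card_dvd_of_le h1
    rw [hK, h2] at h3
    omega
  have hconjC : ∀ y ∈ TT t ι, (∀ g ∈ TT t ι, g * y = y * g) →
      ∀ g ∈ TT t ι, g * ((x : G) * y * (x : G)⁻¹) = ((x : G) * y * (x : G)⁻¹) * g := by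
    intro y hy hc g hg
    have h1 : (x : G)⁻¹ * g * x ∈ TT t ι := by
      have := hnorm.conj_mem ⟨g, hTK hg⟩ hg x⁻¹
      have h2 : (x : G)⁻¹ * g * (x : G)⁻¹⁻¹ ∈ TT t ι := this
      rwa [inv_inv] at h2
    have h2 := hc _ h1
    calc g * ((x : G) * y * (x : G)⁻¹) = (x : G) * ((x : G)⁻¹ * g * x * y) * (x : G)⁻¹ := by group
      _ = (x : G) * (y * ((x : G)⁻¹ * g * x)) * (x : G)⁻¹ := by rw [h2]
      _ = ((x : G) * y * (x : G)⁻¹) * g := by group
  -- the main computation
  have main : ∀ y ∈ TT t ι, (∀ g ∈ TT t ι, g * y = y * g) → y * y = 1 → IsConj t y →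
      (x : G) * y * (x : G)⁻¹ = y * ι e2 := by
    intro y hy hc hyy hcj
    have h1 := hconj y hy
    have h2 := hconjC y hy hc
    have hw : y * ((x : G) * y * (x : G)⁻¹) ∈ TT t ι := mul_mem hy h1
    have hwc : ∀ g ∈ TT t ι, g * (y * ((x : G) * y * (x : G)⁻¹)) = y * ((x : G) * y * (x : G)⁻¹) * g := by
      intro g hg
      calc g * (y * ((x : G) * y * (x : G)⁻¹)) = (g * y) * ((x : G) * y * (x : G)⁻¹) := by group
        _ = y * (g * ((x : G) * y * (x : G)⁻¹)) := by rw [hc g hg]; group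
        _ = y * ((x : G) * y * (x : G)⁻¹) * g := by rw [h2 g hg]; group
    have hwx : (x : G) * (y * ((x : G) * y * (x : G)⁻¹)) = y * ((x : G) * y * (x : G)⁻¹) * x := by
      have h3 := hc _ hxx
      have h4 := hc _ h1
      calc (x : G) * (y * ((x : G) * y * (x : G)⁻¹))
          = ((x : G) * y * (x : G)⁻¹) * (((x : G) * x) * y) * (x : G)⁻¹ := by group
        _ = ((x : G) * y * (x : G)⁻¹) * (y * ((x : G) * x)) * (x : G)⁻¹ := by rw [h3]
        _ = (((x : G) * y * (x : G)⁻¹) * y) * x := by group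
        _ = y * ((x : G) * y * (x : G)⁻¹) * x := by rw [h4]
    have hncj : ¬ IsConj t (y * ((x : G) * y * (x : G)⁻¹)) := fun hcj' => kill _ hwc hcj' hwx
    have hw1 : y * ((x : G) * y * (x : G)⁻¹) ≠ 1 := by
      intro e
      apply kill y hc hcj
      have e1 : (x : G) * y * (x : G)⁻¹ = y := by
        rw [eq_inv_of_mul_eq_one_right e]
        exact inv_eq_of_mul_eq_one_left hyy
      rw [← e1]
      calc (x : G) * ((x : G) * y * (x : G)⁻¹) = (x : G) * y := by rw [e1]
        _ = (x : G) * y * (x : G)⁻¹ * x := by group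
    have hwe : y * ((x : G) * y * (x : G)⁻¹) = ι e2 := by
      obtain ⟨a, ha, hwa⟩ := center_TT h hw hwc
      rcases hwa with hwa | hwa
      · rcases ha with rfl | rfl | rfl | rfl
        · rw [map_one] at hwa
          exact absurd hwa hw1
        · rw [hwa] at hncj
          exact absurd a1 hncj
        · exact hwa
        · rw [hwa] at hncj
          exact absurd a3 hncj
      · exfalso
        apply hncj
        rw [hwa]
        rcases ha with rfl | rfl | rfl | rfl
        · rw [map_one, mul_one]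
        · exact b1
        · exact b2
        · exact b3
    rw [← hwe, ← mul_assoc, hyy, one_mul]
  have e12 : e1 * e2 = e2 * e1 := by decide
  have htT : t ∈ TT t ι := mem_TT.2 ⟨rfl, h.comm e1, h.comm e2⟩
  have hsT : ι e1 ∈ TT t ι := mem_TT.2 ⟨h.comm' e1, rfl, by rw [← map_mul, e12, map_mul]⟩
  have hct : ∀ g ∈ TT t ι, g * t = t * g := fun g hg => (mem_TT.1 hg).1
  have hcs : ∀ g ∈ TT t ι, g * ι e1 = ι e1 * g := fun g hg => (mem_TT.1 hg).2.1
  have hcz : ∀ g ∈ TT t ι, g * ι e2 = ι e2 * g := fun g hg => (mem_TT.1 hg).2.2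
  have h11 : ι e1 * ι e1 = 1 := by rw [← map_mul, show e1 * e1 = 1 by decide, map_one]
  have h22 : ι e2 * ι e2 = 1 := by rw [← map_mul, show e2 * e2 = 1 by decide, map_one]
  have ht := main t htT hct h.tt (IsConj.refl t)
  have hs := main (ι e1) hsT hcs h11 a1
  have hcts : ∀ g ∈ TT t ι, g * (t * ι e1) = t * ι e1 * g := by
    intro g hg
    rw [← mul_assoc, hct g hg, mul_assoc, hcs g hg, mul_assoc]
  apply kill (t * ι e1) hcts b1
  have e1' : (x : G) * (t * ι e1) * (x : G)⁻¹ = t * ι e1 := by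
    calc (x : G) * (t * ι e1) * (x : G)⁻¹ = ((x : G) * t * (x : G)⁻¹) * ((x : G) * ι e1 * (x : G)⁻¹) := by group
      _ = t * (ι e2 * ι e1) * ι e2 := by rw [ht, hs]; group
      _ = t * (ι e1 * ι e2) * ι e2 := by rw [← hcs (ι e2) (mem_TT.2 ⟨h.comm' e2, by rw [← map_mul, ← e12, map_mul], rfl⟩)]
      _ = t * ι e1 * (ι e2 * ι e2) := by group
      _ = t * ι e1 := by rw [h22, mul_one]
  calc (x : G) * (t * ι e1) = ((x : G) * (t * ι e1) * (x : G)⁻¹) * x := by group
    _ = t * ι e1 * x := by rw [e1']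

/-! ### (1) LEMMA B -/

/-- `E₀ = ⟨t⟩ × V` -/
def EE (h : Spl t ι) : Subgroup G where
  carrier := {y | ∃ u, VV u ∧ (y = ι (em u) ∨ y = t * ι (em u))}
  one_mem' := ⟨1, Or.inl rfl, Or.inl (by rw [map_one, map_one])⟩
  mul_mem' := by
    rintro y y' ⟨u, hu, hy⟩ ⟨u', hu', hy'⟩
    refine ⟨u * u', VV_mul u hu u' hu', ?_⟩
    rw [map_mul, map_mul]
    rcases hy with rfl | rfl <;> rcases hy' with rfl | rfl
    · left; rfl
    · right
      rw [← mul_assoc, h.comm' (em u), mul_assoc]
    · right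
      rw [mul_assoc]
    · left
      calc t * ι (em u) * (t * ι (em u')) = t * (ι (em u) * t) * ι (em u') := by group
        _ = (t * t) * (ι (em u) * ι (em u')) := by rw [h.comm' (em u)]; group
        _ = ι (em u) * ι (em u') := by rw [h.tt, one_mul]
  inv_mem' := by
    rintro y ⟨u, hu, hy⟩
    have h1 : u⁻¹ = u := inv_eq_of_mul_eq_one_left (VV_sq u hu)
    refine ⟨u, hu, ?_⟩
    have h2 : (ι (em u))⁻¹ = ι (em u) := by rw [← map_inv, ← map_inv, h1]
    rcases hy with rfl | rfl
    · left; exact h2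
    · right
      rw [mul_inv_rev, h2, h.t_inv, h.comm' (em u)]

theorem mem_EE (h : Spl t ι) {y : G} : y ∈ EE h ↔ ∃ u, VV u ∧ (y = ι (em u) ∨ y = t * ι (em u)) := Iff.rfl

theorem conj_V (h : Spl t ι) (b2 : IsConj t (t * ι e2)) {u : Perm (Fin 5)} (hu : VV u) :
    IsConj t (t * ι (em u)) := by
  by_cases hu1 : u = 1
  · rw [hu1, map_one, map_one, mul_one]
  · obtain ⟨j, -, hj⟩ := exists_conj u (VV_sign u hu) (VV_sq u hu) hu1
    apply conj_t_iota h _ b2
    apply Perm.isConj_iff_cycleType_eq.1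
    refine isConj_iff.2 ⟨em j, ?_⟩
    rw [← hj, map_mul, map_mul, map_inv, em_z5']

/-- the pattern of LEMMA B -/
def PB (t : G) (ι : S7 →* G) : Prop := ∀ y, y * t = t * y → IsConj t y →
  y = t ∨ ∃ k : S7, Perm.sign k = 1 ∧ k ≠ 1 ∧ k * k = 1 ∧ y = t * ι k

theorem pattern_B (h : Spl t ι) (disj : ∀ a, Perm.sign a = 1 → ¬ IsConj t (ι a)) (na1 : ¬ IsConj t (ι e1))
    (na3 : ¬ IsConj t (ι e3)) (nb1 : ¬ IsConj t (t * ι e1)) (nb3 : ¬ IsConj t (t * ι e3)) : PB t ι := by
  intro y hy hc
  obtain ⟨a, rfl | rfl⟩ := h.cases hy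
  · exfalso
    have hsq := sq_iota h hc
    rcases type_of_sq hsq with h1 | h1 | h1 | h1
    · rw [h1] at hc
      exact not_conj_one h hc
    · exact na1 (conj_iota (h1.trans ct1.symm) hc)
    · exact disj e2 (by decide) (conj_iota (h1.trans ct2.symm) hc)
    · exact na3 (conj_iota (h1.trans ct3.symm) hc)
  · have hsq := sq_t_iota h hc
    rcases type_of_sq hsq with h1 | h1 | h1 | h1
    · left; rw [h1, map_one, mul_one]
    · exact absurd (conj_t_iota h (h1.trans ct1.symm) hc) nb1
    · right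
      refine ⟨a, ?_, ?_, hsq, rfl⟩
      · obtain ⟨c, rfl⟩ := isConj_iff.1 (Perm.isConj_iff_cycleType_eq.2 (ct2.trans h1.symm))
        rw [map_mul, map_mul, map_inv, show Perm.sign e2 = 1 by decide, mul_one, mul_inv_cancel]
      · rintro rfl
        rw [Perm.cycleType_one] at h1
        exact absurd h1 (by decide)
    · exact absurd (conj_t_iota h (h1.trans ct3.symm) hc) nb3

/-- `(4 5 6)` -/
def dd : S7 := swap 4 5 * swap 5 6

theorem dd_comm {u : Perm (Fin 5)} (hu : VV u) : dd * em u = em u * dd := by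
  rcases hu with rfl | rfl | rfl | rfl <;> decide +kernel

/-- **fusion in `N(E₀)`** -/
theorem exists_n [Finite G] (h : Spl t ι) (b2 : IsConj t (t * ι e2)) (hP : PB t ι) {v : Perm (Fin 5)} (hv : VV v) :
    ∃ n ∈ normalizer (EE h : Set G), n * t * n⁻¹ = t * ι (em v) := by
  by_cases hv1 : v = 1
  · exact ⟨1, one_mem _, by rw [hv1, map_one, map_one]; group⟩
  obtain ⟨g', hg'⟩ := isConj_iff.1 (conj_V h b2 hv)
  obtain ⟨g, hgdef⟩ : ∃ g, g = g'⁻¹ := ⟨_, rfl⟩
  have hg : g * (t * ι (em v)) * g⁻¹ = t := by rw [hgdef, ← hg']; group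
  -- images of the elements of `V`
  have himg : ∀ w, VV w → w ≠ 1 → ∃ k : S7, Perm.sign k = 1 ∧ k ≠ 1 ∧ k * k = 1 ∧ g * ι (em w) * g⁻¹ = ι k := by
    intro w hw hw1
    have e1 : t * (g * ι (em w) * g⁻¹) = g * (t * ι (em (v * w))) * g⁻¹ := by
      rw [map_mul, map_mul]
      calc t * (g * ι (em w) * g⁻¹) = (g * (t * ι (em v)) * g⁻¹) * (g * ι (em w) * g⁻¹) := by rw [hg]
        _ = g * (t * (ι (em v) * ι (em w))) * g⁻¹ := by group
    have hcomm : (g * ι (em w) * g⁻¹) * t = t * (g * ι (em w) * g⁻¹) := by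
      have e2 : ι (em w) * (t * ι (em v)) = (t * ι (em v)) * ι (em w) := by
        have e3 : ι (em w) * ι (em v) = ι (em v) * ι (em w) := by
          rw [← map_mul, ← map_mul, VV_comm w hw v hv, map_mul, map_mul]
        calc ι (em w) * (t * ι (em v)) = (ι (em w) * t) * ι (em v) := by group
          _ = t * (ι (em w) * ι (em v)) := by rw [h.comm' (em w)]; group
          _ = (t * ι (em v)) * ι (em w) := by rw [e3]; group
      calc (g * ι (em w) * g⁻¹) * t = (g * ι (em w) * g⁻¹) * (g * (t * ι (em v)) * g⁻¹) := by rw [hg]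
        _ = g * (ι (em w) * (t * ι (em v))) * g⁻¹ := by group
        _ = (g * (t * ι (em v)) * g⁻¹) * (g * ι (em w) * g⁻¹) := by rw [e2]; group
        _ = t * (g * ι (em w) * g⁻¹) := by rw [hg]
    have hcj : IsConj t (t * (g * ι (em w) * g⁻¹)) := by
      rw [e1]
      exact (conj_V h b2 (VV_mul v hv w hw)).trans (isConj_iff.2 ⟨g, rfl⟩)
    have h3 := hP _ (by rw [mul_assoc, hcomm]) hcj
    rcases h3 with h3 | ⟨k, hk1, hk2, hk3, hk4⟩
    · exfalso
      have h4 := mul_eq_left.1 h3
      rw [mul_inv_eq_one] at h4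
      have h5 : ι (em w) = 1 := mul_eq_left.1 h4
      have h6 := h.iota_eq_one h5
      rw [← map_one em] at h6
      exact hw1 (em_inj h6)
    · exact ⟨k, hk1, hk2, hk3, mul_left_cancel hk4⟩
  -- the element of order three
  have hdd3 : dd * dd * dd = 1 := by decide
  have hdd1 : dd ≠ 1 := by decide
  have hyd : (g * ι dd * g⁻¹) * t = t * (g * ι dd * g⁻¹) := by
    have e2 : ι dd * (t * ι (em v)) = (t * ι (em v)) * ι dd := by
      have e3 : ι dd * ι (em v) = ι (em v) * ι dd := by
        rw [← map_mul, dd_comm hv, map_mul]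
      calc ι dd * (t * ι (em v)) = (ι dd * t) * ι (em v) := by group
        _ = t * (ι dd * ι (em v)) := by rw [h.comm' dd]; group
        _ = (t * ι (em v)) * ι dd := by rw [e3]; group
    calc (g * ι dd * g⁻¹) * t = (g * ι dd * g⁻¹) * (g * (t * ι (em v)) * g⁻¹) := by rw [hg]
      _ = g * (ι dd * (t * ι (em v))) * g⁻¹ := by group
      _ = (g * (t * ι (em v)) * g⁻¹) * (g * ι dd * g⁻¹) := by rw [e2]; group
      _ = t * (g * ι dd * g⁻¹) := by rw [hg]
  have hy3 : (g * ι dd * g⁻¹) * (g * ι dd * g⁻¹) * (g * ι dd * g⁻¹) = 1 := by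
    calc (g * ι dd * g⁻¹) * (g * ι dd * g⁻¹) * (g * ι dd * g⁻¹) = g * (ι dd * ι dd * ι dd) * g⁻¹ := by group
      _ = 1 := by rw [← map_mul, ← map_mul, hdd3, map_one]; group
  obtain ⟨d, hd⟩ : ∃ d, g * ι dd * g⁻¹ = ι d := by
    obtain ⟨d, hd | hd⟩ := h.cases hyd
    · exact ⟨d, hd⟩
    · exfalso
      rw [hd] at hy3
      have e3 : t * ι (d * d * d) = 1 := by
        rw [map_mul, map_mul]
        calc t * (ι d * ι d * ι d) = (t * t) * t * (ι d * ι d * ι d) := by rw [h.tt, one_mul]
          _ = t * (t * (t * ι d)) * ι d * ι d := by group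
          _ = t * (t * (ι d * t)) * ι d * ι d := by rw [h.comm d]
          _ = t * ((t * ι d) * t) * ι d * ι d := by group
          _ = t * ((ι d * t) * t) * ι d * ι d := by rw [h.comm d]
          _ = (t * ι d) * (t * (t * ι d)) * ι d := by group
          _ = (t * ι d) * (t * (ι d * t)) * ι d := by rw [h.comm d]
          _ = (t * ι d) * (t * ι d) * (t * ι d) := by group
          _ = 1 := hy3
      apply h.ne (d * d * d)
      rw [eq_inv_of_mul_eq_one_right e3, h.t_inv]
  have hd3 : d * d * d = 1 := by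
    apply h.inj
    rw [map_mul, map_mul, map_one, ← hd]
    exact hy3
  have hd1 : d ≠ 1 := by
    rintro rfl
    rw [map_one, mul_inv_eq_one] at hd
    exact hdd1 (h.iota_eq_one (mul_eq_left.1 hd))
  -- commutation
  have hdk : ∀ w k, VV w → g * ι (em w) * g⁻¹ = ι k → d * k = k * d := by
    intro w k hw hk
    apply h.inj
    rw [map_mul, map_mul, ← hd, ← hk]
    have e3 : ι dd * ι (em w) = ι (em w) * ι dd := by
      rw [← map_mul, dd_comm hw, map_mul]
    calc g * ι dd * g⁻¹ * (g * ι (em w) * g⁻¹) = g * (ι dd * ι (em w)) * g⁻¹ := by group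
      _ = g * ι (em w) * g⁻¹ * (g * ι dd * g⁻¹) := by rw [e3]; group
  -- the second generator
  have hw0 : ∃ w0, VV w0 ∧ w0 ≠ 1 ∧ w0 ≠ v ∧ (∀ S : Perm (Fin 5) → Prop, S 1 → S v → S w0 →
      (∀ u u', S u → S u' → S (u * u')) → ∀ u, VV u → S u) := by
    have hz1 : z5 ≠ 1 := by decide +kernel
    have hvz : v5 ≠ z5 := by decide +kernel
    have hv1' : v5 ≠ 1 := by decide +kernel
    rcases hv with rfl | rfl | rfl | rfl
    · exact absurd rfl hv1
    · refine ⟨v5, by decide +kernel, hv1', hvz, ?_⟩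
      intro S h1 hz hv5 hm u hu
      rcases hu with rfl | rfl | rfl | rfl
      · exact h1
      · exact hz
      · exact hv5
      · exact hm _ _ hz hv5
    · refine ⟨z5, by decide +kernel, hz1, hvz.symm, ?_⟩
      intro S h1 hv5 hz hm u hu
      rcases hu with rfl | rfl | rfl | rfl
      · exact h1
      · exact hz
      · exact hv5
      · exact hm _ _ hz hv5
    · refine ⟨z5, by decide +kernel, hz1, by decide +kernel, ?_⟩
      intro S h1 hzv hz hm u hu
      have e : v5 = z5 * (z5 * v5) := by decide +kernel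
      rcases hu with rfl | rfl | rfl | rfl
      · exact h1
      · exact hz
      · rw [e]; exact hm _ _ hz hzv
      · exact hzv
  obtain ⟨w0, hw0V, hw01, hw0v, hgen⟩ := hw0
  obtain ⟨a, ha1, ha2, ha3, ha4⟩ := himg v hv hv1
  obtain ⟨b, hb1, hb2, hb3, hb4⟩ := himg w0 hw0V hw01
  have hab : a ≠ b := by
    rintro rfl
    have e := ha4.trans hb4.symm
    exact hw0v (em_inj (h.inj (mul_left_cancel (mul_right_cancel e)))).symm
  have hcab : a * b = b * a := by
    apply h.inj
    rw [map_mul, map_mul, ← ha4, ← hb4]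
    have e3 : ι (em v) * ι (em w0) = ι (em w0) * ι (em v) := by
      rw [← map_mul, ← map_mul, VV_comm v hv w0 hw0V, map_mul, map_mul]
    calc g * ι (em v) * g⁻¹ * (g * ι (em w0) * g⁻¹) = g * (ι (em v) * ι (em w0)) * g⁻¹ := by group
      _ = g * ι (em w0) * g⁻¹ * (g * ι (em v) * g⁻¹) := by rw [e3]; group
  obtain ⟨c, hc1, hc2⟩ := exists_c ha3 ha2 ha1 hb3 hb2 hb1 hab hcab hd3 hd1 (hdk v a hv ha4) (hdk w0 b hw0V hb4)
  -- the normalising element
  obtain ⟨n, hn⟩ : ∃ n, n = ι c * g := ⟨_, rfl⟩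
  have hn1 : n * (t * ι (em v)) * n⁻¹ = t := by
    rw [hn]
    calc ι c * g * (t * ι (em v)) * (ι c * g)⁻¹ = ι c * (g * (t * ι (em v)) * g⁻¹) * (ι c)⁻¹ := by group
      _ = t := by rw [hg, h.comm' c]; group
  have hn2 : n * ι (em v) * n⁻¹ = ι (em z5) := by
    rw [hn]
    calc ι c * g * ι (em v) * (ι c * g)⁻¹ = ι c * (g * ι (em v) * g⁻¹) * (ι c)⁻¹ := by group
      _ = ι (em z5) := by rw [ha4, ← hc1, map_mul, map_mul, map_inv]
  have hn3 : n * ι (em w0) * n⁻¹ = ι (em v5) := by
    rw [hn]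
    calc ι c * g * ι (em w0) * (ι c * g)⁻¹ = ι c * (g * ι (em w0) * g⁻¹) * (ι c)⁻¹ := by group
      _ = ι (em v5) := by rw [hb4, ← hc2, map_mul, map_mul, map_inv]
  have hVE : ∀ u, VV u → n * ι (em u) * n⁻¹ ∈ EE h := by
    apply hgen (fun u => n * ι (em u) * n⁻¹ ∈ EE h)
    · rw [map_one, map_one]
      have : n * 1 * n⁻¹ = 1 := by group
      rw [this]; exact one_mem _
    · rw [hn2]; exact ⟨z5, Or.inr (Or.inl rfl), Or.inl rfl⟩
    · rw [hn3]; exact ⟨v5, Or.inr (Or.inr (Or.inl rfl)), Or.inl rfl⟩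
    · intro u u' hu hu'
      have e : n * ι (em (u * u')) * n⁻¹ = (n * ι (em u) * n⁻¹) * (n * ι (em u') * n⁻¹) := by
        rw [map_mul, map_mul]; group
      rw [e]
      exact mul_mem hu hu'
  have hnt : n * t * n⁻¹ = t * (ι (em z5))⁻¹ := by
    have e : n * t * n⁻¹ = (n * (t * ι (em v)) * n⁻¹) * (n * ι (em v) * n⁻¹)⁻¹ := by group
    rw [e, hn1, hn2]
  have htE : t ∈ EE h := ⟨1, Or.inl rfl, Or.inr (by rw [map_one, map_one, mul_one])⟩
  have hzE : ι (em z5) ∈ EE h := ⟨z5, Or.inr (Or.inl rfl), Or.inl rfl⟩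
  have hntE : n * t * n⁻¹ ∈ EE h := by
    rw [hnt]; exact mul_mem htE (inv_mem hzE)
  have hle : cj n (EE h) ≤ EE h := by
    intro y hy
    rw [mem_cj] at hy
    obtain ⟨u, hu, hy'⟩ := hy
    rcases hy' with hy' | hy'
    · have e : y = n * ι (em u) * n⁻¹ := by rw [← hy']; group
      rw [e]; exact hVE u hu
    · have e : y = (n * t * n⁻¹) * (n * ι (em u) * n⁻¹) := by
        have : y = n * (n⁻¹ * y * n) * n⁻¹ := by group
        rw [this, hy']; group
      rw [e]; exact mul_mem hntE (hVE u hu)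
  have hnN : n ∈ normalizer (EE h : Set G) := by
    rw [mem_normalizer_iff_cj]
    exact eq_of_le_of_card_ge hle (card_cj n (EE h)).symm.le
  refine ⟨n⁻¹, inv_mem hnN, ?_⟩
  calc n⁻¹ * t * n⁻¹⁻¹ = n⁻¹ * (n * (t * ι (em v)) * n⁻¹) * n := by rw [hn1, inv_inv]
    _ = t * ι (em v) := by group

/-- **LEMMA B** -/
theorem lemma_B [Finite G] (h : Spl t ι) (disj : ∀ a, Perm.sign a = 1 → ¬ IsConj t (ι a))
    (b2 : IsConj t (t * ι e2)) (hP : PB t ι) : 2 ^ 7 ∣ Nat.card G := by
  obtain ⟨N, hN⟩ : ∃ N, N = normalizer (EE h : Set G) := ⟨_, rfl⟩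
  have htE : t ∈ EE h := ⟨1, Or.inl rfl, Or.inr (by rw [map_one, map_one, mul_one])⟩
  have hEN : EE h ≤ N := by rw [hN]; exact le_normalizer
  have htN : t ∈ N := hEN htE
  -- the class of `t` in `N`
  have hclass : Nat.card {y : N // IsConj (⟨t, htN⟩ : N) y} = 4 := by
    have hmem : ∀ u : {u // VV u}, t * ι (em u.1) ∈ N := fun u => hEN ⟨u.1, u.2, Or.inr rfl⟩
    let f : {u // VV u} → {y : N // IsConj (⟨t, htN⟩ : N) y} := fun u => ⟨⟨t * ι (em u.1), hmem u⟩, by
      obtain ⟨n, hn, hnt⟩ := exists_n h b2 hP u.2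
      rw [← hN] at hn
      exact isConj_iff.2 ⟨⟨n, hn⟩, Subtype.ext hnt⟩⟩
    have hf : Function.Bijective f := by
      constructor
      · intro u u' e
        have e1 : t * ι (em u.1) = t * ι (em u'.1) := congrArg (fun y => ((y.1 : N) : G)) e
        exact Subtype.ext (em_inj (h.inj (mul_left_cancel e1)))
      · rintro ⟨y, hy⟩
        obtain ⟨n, hn⟩ := isConj_iff.1 hy
        have hn' : (n : G) * t * (n : G)⁻¹ = y := congrArg Subtype.val hn
        have hyE : (y : G) ∈ EE h := by
          rw [← hn']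
          have h1 := hN.le n.2
          exact (mem_normalizer_iff.1 h1 t).1 htE
        obtain ⟨u, hu, hy' | hy'⟩ := hyE
        · exfalso
          apply disj (em u) (by rw [sign_em]; exact VV_sign u hu)
          rw [← hy']
          exact isConj_iff.2 ⟨n, hn'⟩
        · exact ⟨⟨u, hu⟩, Subtype.ext (Subtype.ext hy'.symm)⟩
    rw [← Nat.card_eq_of_bijective f hf, Nat.card_eq_fintype_card, card_VV]
  rw [Lib.ModFour.card_isConj] at hclass
  -- `T ≤ N ∩ C(t)`
  have hTN : TT t ι ≤ N := by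
    intro y hy
    rw [hN, mem_normalizer_iff_cj]
    apply eq_of_le_of_card_ge _ (card_cj y (EE h)).symm.le
    intro x hx
    rw [mem_cj] at hx
    obtain ⟨u, hu, hx'⟩ := hx
    obtain ⟨h1, h2, h3⟩ := mem_TT.1 hy
    obtain ⟨a, ha⟩ := h.cases h1
    have ha1 := (comm_iff h ha).1 h2
    have ha2 := (comm_iff h ha).1 h3
    obtain ⟨b, hb⟩ := split ha1
    have hbz : b * z5 = z5 * b := by
      rw [← comm_e2_iff]
      rcases hb with hb | hb
      · rw [← hb]; exact ha2
      · rw [hb] at ha2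
        apply mul_left_cancel (a := e1)
        rw [← mul_assoc, ha2, ← mul_assoc, ← mul_assoc, show e1 * e2 = e2 * e1 by decide]
    have hau : a * em u * a⁻¹ = em (b * u * b⁻¹) := by
      rcases hb with hb | hb
      · rw [hb, map_mul, map_mul, map_inv]
      · have e := em_comm1 (b * u * b⁻¹)
        rw [hb]
        calc e1 * em b * em u * (e1 * em b)⁻¹ = e1 * (em b * em u * (em b)⁻¹) * e1⁻¹ := by group
          _ = e1 * em (b * u * b⁻¹) * e1⁻¹ := by rw [map_mul, map_mul, map_inv]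
          _ = em (b * u * b⁻¹) := by rw [← e]; group
    have hyu : y * ι (em u) * y⁻¹ = ι (em (b * u * b⁻¹)) := by
      rw [← hau, map_mul, map_mul, map_inv]
      rcases ha with ha | ha
      · rw [ha]
      · rw [ha]
        have e := h.comm a
        have e2 : t * ι (em u) * t⁻¹ = ι (em u) := by rw [h.comm (em u)]; group
        calc t * ι a * ι (em u) * (t * ι a)⁻¹ = (ι a * t) * ι (em u) * (ι a * t)⁻¹ := by rw [e]
          _ = ι a * (t * ι (em u) * t⁻¹) * (ι a)⁻¹ := by group
          _ = ι a * ι (em u) * (ι a)⁻¹ := by rw [e2]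
    have hyt : y * t * y⁻¹ = t := by rw [h1]; group
    refine ⟨b * u * b⁻¹, conj_VV b hbz u hu, ?_⟩
    rcases hx' with hx' | hx'
    · left
      rw [← hyu, ← hx']; group
    · right
      have : x = y * (y⁻¹ * x * y) * y⁻¹ := by group
      rw [this, hx']
      calc y * (t * ι (em u)) * y⁻¹ = (y * t * y⁻¹) * (y * ι (em u) * y⁻¹) := by group
        _ = t * ι (em (b * u * b⁻¹)) := by rw [hyt, hyu]
  have hle : (TT t ι).subgroupOf N ≤ centralizer ({(⟨t, htN⟩ : N)} : Set N) := by
    intro y hy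
    rw [mem_centralizer_singleton_iff]
    exact Subtype.ext (mem_TT.1 hy).1
  have h32 := card_dvd_of_le hle
  rw [Nat.card_congr (subgroupOfEquivOfLe hTN).toEquiv, card_TT h] at h32
  have hNc := (centralizer ({(⟨t, htN⟩ : N)} : Set N)).card_mul_index
  rw [hclass] at hNc
  have h128 : 2 ^ 7 ∣ Nat.card N := by
    rw [← hNc, show (2 : ℕ) ^ 7 = 2 ^ 5 * 4 from rfl]
    exact mul_dvd_mul h32 (dvd_refl 4)
  exact h128.trans (card_subgroup_dvd_card N)

end Pattern

open Pattern in
/-- **(1), (2): the pattern.** -/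
theorem exists_all {G : Type*} [Group G] [Finite G] {t : G} {ι : S7 →* G} (hG : ∀ H : Subgroup G, H.index ≠ 2)
    (hr : ¬ SectionalPRankLE 2 4 G) (h : Spl t ι) (disj : ∀ a, Perm.sign a = 1 → ¬ IsConj t (ι a)) :
    ∃ ι', All t ι' := by
  classical
  have hA := even_A hG h
  have hB := even_B hG h
  have hM := mod_four hG h disj
  have hcard := card_G h
  have hodd : 2 ∣ (centralizer ({t} : Set G)).index := by
    by_contra hcon
    exact hr (sect_of_odd h hcon)
  have h64 : 2 ^ 6 ∣ Nat.card G := by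
    rw [hcard]
    obtain ⟨m, hm⟩ := hodd
    exact ⟨315 * m, by rw [hm]; ring⟩
  have key : IsConj t (t * ι e2) ∧ (IsConj t (ι e1) ↔ IsConj t (ι e3)) ∧
      (IsConj t (t * ι e1) ↔ IsConj t (t * ι e3)) ∧
      (IsConj t (ι e1) ∨ IsConj t (t * ι e1) ∨ (centralizer ({t} : Set G)).index % 4 = 2) := by
    rw [Nat.even_iff] at hA hB
    unfold Nat.ModEq at hM
    by_cases p1 : IsConj t (ι e1) <;> by_cases p3 : IsConj t (ι e3) <;> by_cases q1 : IsConj t (t * ι e1) <;>
      by_cases q2 : IsConj t (t * ι e2) <;> by_cases q3 : IsConj t (t * ι e3) <;>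
      simp only [p1, p3, q1, q2, q3, if_true, if_false, true_and, false_and, iff_true, iff_false,
        not_true_eq_false, true_or, false_or, or_true] at hA hB hM ⊢ <;> omega
  obtain ⟨b2, h13, g13, hlast⟩ := key
  have hcases : (IsConj t (ι e1) ∧ ¬ IsConj t (t * ι e1)) ∨ (¬ IsConj t (ι e1) ∧ IsConj t (t * ι e1)) := by
    by_cases p1 : IsConj t (ι e1)
    · left
      refine ⟨p1, fun q1 => ?_⟩
      exact z_case h h64 p1 (h13.1 p1) q1 b2 (g13.1 q1)
    · right
      refine ⟨p1, ?_⟩
      by_contra q1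
      have h2 : (centralizer ({t} : Set G)).index % 4 = 2 := by
        rcases hlast with h2 | h2 | h2
        · exact absurd h2 p1
        · exact absurd h2 q1
        · exact h2
      have h3 := lemma_B h disj b2 (pattern_B h disj p1 (fun e => p1 (h13.2 e)) q1 (fun e => q1 (g13.2 e)))
      rw [hcard] at h3
      have h4 : 4 ∣ 315 * (centralizer ({t} : Set G)).index := by
        obtain ⟨m, hm⟩ := h3
        exact ⟨m, by omega⟩
      omega
  rcases hcases with ⟨p1, q1⟩ | ⟨p1, q1⟩
  · -- the other complement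
    refine ⟨twist t h.tt ι h.comm, ?_⟩
    have ht1 : ∀ a : S7, a * a = 1 → a ≠ 1 → (a.cycleType = e1.cycleType ∧ Perm.sign a = -1) ∨
        (a.cycleType = e2.cycleType ∧ Perm.sign a = 1) ∨ (a.cycleType = e3.cycleType ∧ Perm.sign a = -1) := by
      intro a ha ha1
      have hs : ∀ b : S7, a.cycleType = b.cycleType → Perm.sign a = Perm.sign b := by
        intro b hb
        obtain ⟨c, rfl⟩ := isConj_iff.1 (Perm.isConj_iff_cycleType_eq.2 hb.symm)
        rw [map_mul, map_mul, map_inv, mul_comm (Perm.sign c), mul_assoc, mul_inv_cancel, mul_one]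
      rcases type_of_sq ha with h1 | h1 | h1 | h1
      · exact absurd h1 ha1
      · rw [← ct1] at h1
        exact Or.inl ⟨h1, (hs _ h1).trans (by decide)⟩
      · rw [← ct2] at h1
        exact Or.inr (Or.inl ⟨h1, (hs _ h1).trans (by decide)⟩)
      · rw [← ct3] at h1
        exact Or.inr (Or.inr ⟨h1, (hs _ h1).trans (by decide)⟩)
    have hne : (-1 : ℤˣ) ≠ 1 := by decide
    refine { toSpl := spl_twist h, yes := ?_, no := ?_ }
    · intro a ha ha1
      rw [twist_apply]
      rcases ht1 a ha ha1 with ⟨h1, h2⟩ | ⟨h1, h2⟩ | ⟨h1, h2⟩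
      · rw [if_neg (by rw [h2]; exact hne), ← mul_assoc, h.tt, one_mul]
        exact conj_iota h1.symm p1
      · rw [if_pos h2, one_mul]
        exact conj_t_iota h h1.symm b2
      · rw [if_neg (by rw [h2]; exact hne), ← mul_assoc, h.tt, one_mul]
        exact conj_iota h1.symm (h13.1 p1)
    · intro a ha ha1
      rw [twist_apply]
      rcases ht1 a ha ha1 with ⟨h1, h2⟩ | ⟨h1, h2⟩ | ⟨h1, h2⟩
      · rw [if_neg (by rw [h2]; exact hne)]
        exact fun e => q1 (conj_t_iota h h1 e)
      · rw [if_pos h2, one_mul]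
        exact disj a h2
      · rw [if_neg (by rw [h2]; exact hne)]
        exact fun e => q1 (g13.2 (conj_t_iota h h1 e))
  · refine ⟨ι, { toSpl := h, yes := ?_, no := ?_ }⟩
    · intro a ha ha1
      rcases type_of_sq ha with h1 | h1 | h1 | h1
      · exact absurd h1 ha1
      · exact conj_t_iota h (ct1.trans h1.symm) q1
      · exact conj_t_iota h (ct2.trans h1.symm) b2
      · exact conj_t_iota h (ct3.trans h1.symm) (g13.1 q1)
    · intro a ha ha1
      rcases type_of_sq ha with h1 | h1 | h1 | h1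
      · exact absurd h1 ha1
      · exact fun e => p1 (conj_iota (h1.trans ct1.symm) e)
      · exact fun e => disj e2 (by decide) (conj_iota (h1.trans ct2.symm) e)
      · exact fun e => p1 (h13.2 (conj_iota (h1.trans ct3.symm) e))

end Cfsg.Agent.OddHalf.D5.Seven

end
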